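import Groth.Agent.FlatHens.Points
import Groth.Agent.QCoh.FlatOver
import Groth.Agent.QCoh.PullbackBC
import Groth.Agent.FlatStrat.Sheaf
import Mathlib.AlgebraicGeometry.PullbackCarrier

/-! Flattening ideals at points of the closed fibre of a scheme over a henselian local ring. -/

set_option autoImplicit false
set_option backward.isDefEq.respectTransparency false
set_option backward.isDefEq.respectTransparency.types false
attribute [-instance] CategoryTheory.catToReflQuiver
set_option linter.style.haveILetI false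

universe u

noncomputable section

open CategoryTheory CategoryTheory.Limits AlgebraicGeometry TopologicalSpace Opposite IsLocalRing

namespace Groth.Agent.FlatHens

variable {A : Type u} [CommRing A] {X : Scheme.{u}} (f : X ⟶ Spec (CommRingCat.of A))

/-- The structure map of an open of a scheme over `Spec A`. -/
def chartMap (U : X.Opens) : A →+* Γ(X, U) :=
  ((Scheme.ΓSpecIso (CommRingCat.of A)).inv ≫ f.appLE ⊤ U (le_top : U ≤ f ⁻¹ᵁ ⊤)).hom

theorem comap_chartMap {U : X.Opens} (hU : IsAffineOpen U) {x : X} (hx : x ∈ U) :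
    (hU.primeIdealOf ⟨x, hx⟩).asIdeal.comap (chartMap f U) = (f x).asIdeal := by
  let P := (isAffineOpen_top (Spec (CommRingCat.of A))).primeIdealOf ⟨f x, trivial⟩
  have h1 : (hU.primeIdealOf ⟨x, hx⟩).asIdeal.comap (f.appLE ⊤ U (le_top : U ≤ f ⁻¹ᵁ ⊤)).hom = P.asIdeal :=
    congrArg PrimeSpectrum.asIdeal (IsAffineOpen.comap_primeIdealOf_appLE ⊤ (isAffineOpen_top _) U hU le_top hx)
  have h2 : Spec.map (Scheme.ΓSpecIso (CommRingCat.of A)).inv P = f x := by
    rw [← Scheme.isoSpec_Spec_inv, ← IsAffineOpen.fromSpec_top]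
    exact (isAffineOpen_top _).fromSpec_primeIdealOf ⟨f x, trivial⟩
  rw [chartMap, CommRingCat.hom_comp, ← Ideal.comap_comap, h1]
  exact congrArg PrimeSpectrum.asIdeal h2

theorem primeIdealOf_injective {U : X.Opens} (hU : IsAffineOpen U) {a b : X} (ha : a ∈ U) (hb : b ∈ U)
    (h : hU.primeIdealOf ⟨a, ha⟩ = hU.primeIdealOf ⟨b, hb⟩) : a = b := by
  have h1 := congrArg (fun P => hU.fromSpec P) h
  rwa [hU.fromSpec_primeIdealOf, hU.fromSpec_primeIdealOf] at h1

/-- Flatness at a point read on an affine piece. -/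
theorem isFlatOverAt_iff_flatAt {Y T : Scheme.{u}} (v : Y ⟶ T) (N : Y.Modules) (hN : Coh.IsQCoh N) {W : Y.Opens}
    (hW : IsAffineOpen W) {O : T.Opens} (hO : IsAffineOpen O) (hle : W ≤ v ⁻¹ᵁ O) {y : Y} (hy : y ∈ W) :
    FlatMod.IsFlatOverAt v N y ↔
      (letI : Module Γ(T, O) Γ(N, W) := Module.compHom _ (v.appLE O W hle).hom
       letI : Algebra Γ(T, O) Γ(Y, W) := (v.appLE O W hle).hom.toAlgebra
       haveI : IsScalarTower Γ(T, O) Γ(Y, W) Γ(N, W) := IsScalarTower.of_algebraMap_smul fun _ _ => rfl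
       FlatCA.FlatAt Γ(T, O) (hW.primeIdealOf ⟨y, hy⟩).asIdeal Γ(N, W)) := by
  letI : Algebra Γ(T, O) Γ(Y, W) := (v.appLE O W hle).hom.toAlgebra
  letI : Module Γ(T, O) Γ(N, W) := Module.compHom _ (v.appLE O W hle).hom
  haveI : IsScalarTower Γ(T, O) Γ(Y, W) Γ(N, W) := IsScalarTower.of_algebraMap_smul fun _ _ => rfl
  rw [QCoh.isFlatOverAt_iff v hO hle hy]
  letI := QCoh.stalkModule N hy
  letI : Module Γ(T, O) (N.presheaf.stalk y) :=
    Module.compHom _ ((v.appLE O W hle) ≫ Y.presheaf.germ W y hy).hom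
  haveI : IsScalarTower Γ(T, O) Γ(Y, W) (N.presheaf.stalk y) := IsScalarTower.of_algebraMap_smul fun _ _ => rfl
  haveI := QCoh.isLocalizedModule_germLin hN hW hy
  let e := (IsLocalizedModule.iso (hW.primeIdealOf ⟨y, hy⟩).asIdeal.primeCompl
    (QCoh.germLin N hy)).restrictScalars Γ(T, O)
  exact ⟨fun h => Module.Flat.of_linearEquiv e, fun (h : Module.Flat Γ(T, O)
    (LocalizedModule (hW.primeIdealOf ⟨y, hy⟩).asIdeal.primeCompl Γ(N, W))) => Module.Flat.of_linearEquiv e.symm⟩

set_option maxHeartbeats 3200000 in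
/-- A flattening ideal at a point read on an arbitrary base change. -/
theorem chart_iff [IsLocalRing A] {F : X.Modules} (hF : Coh.IsQCoh F) {U : X.Opens} (hU : IsAffineOpen U) {x : X}
    (hx : x ∈ U) {I : Ideal A}
    (h : letI := (chartMap f U).toAlgebra
         Flattens A (hU.primeIdealOf ⟨x, hx⟩).asIdeal Γ(F, U) I)
    {T : Scheme.{u}} (g : T ⟶ Spec (CommRingCat.of A)) (t : T) (ht : g t = closedPoint A) :
    (∀ x' : ↑(pullback f g), pullback.snd f g x' = t → pullback.fst f g x' = x →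
      FlatMod.IsFlatOverAt (pullback.snd f g) ((Scheme.Modules.pullback (pullback.fst f g)).obj F) x') ↔
    ∀ a ∈ I, T.presheaf.germ ⊤ t trivial (g.appTop ((Scheme.ΓSpecIso (CommRingCat.of A)).inv a)) = 0 := by
  obtain ⟨_, ⟨O, hO, rfl⟩, htO, -⟩ := T.isBasis_affineOpens.exists_subset_of_mem_open (Set.mem_univ t) isOpen_univ
  let fst := pullback.fst f g
  let snd := pullback.snd f g
  let V : (Spec (CommRingCat.of A)).Opens := ⊤
  have hUV : U ≤ f ⁻¹ᵁ V := le_top
  have hOV : O ≤ g ⁻¹ᵁ V := le_top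
  let W : (pullback f g).Opens := fst ⁻¹ᵁ U ⊓ snd ⁻¹ᵁ O
  have hc : IsPullback fst snd f g := IsPullback.of_hasPullback f g
  have hV : IsAffineOpen V := isAffineOpen_top _
  have hW : IsAffineOpen W := by
    haveI : IsAffine _ := hV
    haveI : IsAffine _ := hO
    haveI : IsAffine _ := hU
    exact .of_isIso (Scheme.Hom.isPullback_resLE hc hOV hUV (UY := W) rfl).isoPullback.hom
  have hpo₀ := (isIso_pushoutSection_iff hc hOV hUV (UY := W) rfl).mp
    (isIso_pushoutSection_of_isAffineOpen hc hOV hUV rfl hV hO hU)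
  let e := Scheme.ΓSpecIso (CommRingCat.of A)
  have hpo : IsPushout (e.inv ≫ f.appLE V U hUV) (e.inv ≫ g.appLE V O hOV) (fst.appLE U W inf_le_left)
      (snd.appLE O W inf_le_right) :=
    hpo₀.of_iso e (Iso.refl _) (Iso.refl _) (Iso.refl _) (by simp) (by simp) (by simp) (by simp)
  let N := (Scheme.Modules.pullback fst).obj F
  letI : Algebra A Γ(X, U) := (chartMap f U).toAlgebra
  letI : Algebra A Γ(T, O) := (chartMap g O).toAlgebra
  letI : Algebra Γ(X, U) Γ(pullback f g, W) := (fst.appLE U W inf_le_left).hom.toAlgebra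
  letI : Algebra Γ(T, O) Γ(pullback f g, W) := (snd.appLE O W inf_le_right).hom.toAlgebra
  letI : Algebra A Γ(pullback f g, W) :=
    ((e.inv ≫ f.appLE V U hUV) ≫ fst.appLE U W inf_le_left).hom.toAlgebra
  haveI : IsScalarTower A Γ(X, U) Γ(pullback f g, W) := .of_algebraMap_eq fun _ => rfl
  haveI : IsScalarTower A Γ(T, O) Γ(pullback f g, W) := .of_algebraMap_eq fun r => congr($(hpo.w).hom r)
  haveI : Algebra.IsPushout A Γ(T, O) Γ(X, U) Γ(pullback f g, W) :=
    CommRingCat.isPushout_iff_isPushout.mp hpo.flip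
  letI : Module Γ(X, U) Γ(N, W) := Module.compHom _ (fst.appLE U W inf_le_left).hom
  haveI : IsScalarTower Γ(X, U) Γ(pullback f g, W) Γ(N, W) := .of_algebraMap_smul fun _ _ => rfl
  let l : Γ(F, U) →ₗ[Γ(X, U)] Γ(N, W) :=
    { toFun := QCoh.pullSec fst F inf_le_left
      map_add' := QCoh.pullSec_add fst F inf_le_left
      map_smul' := fun r m => QCoh.pullSec_smul fst F inf_le_left r m }
  have hb : IsBaseChange Γ(pullback f g, W) l :=
    QCoh.isBaseChange_pullback hU fst hW hF inf_le_left (fun _ => rfl) l fun _ => rfl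
  letI : Module Γ(T, O) Γ(N, W) := Module.compHom _ (snd.appLE O W inf_le_right).hom
  haveI : IsScalarTower Γ(T, O) Γ(pullback f g, W) Γ(N, W) := .of_algebraMap_smul fun _ _ => rfl
  let p := (hO.primeIdealOf ⟨t, htO⟩).asIdeal
  have hp : p.comap (algebraMap A Γ(T, O)) = maximalIdeal A := by
    show p.comap (chartMap g O) = _
    rw [comap_chartMap g hO htO, ht]
    rfl
  have key := flattens_prime l hb (hU.primeIdealOf ⟨x, hx⟩).asIdeal h p hp
  have hstep : (∀ (Q : Ideal Γ(pullback f g, W)) [Q.IsPrime],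
        Q.comap (algebraMap Γ(X, U) Γ(pullback f g, W)) = (hU.primeIdealOf ⟨x, hx⟩).asIdeal →
        Q.comap (algebraMap Γ(T, O) Γ(pullback f g, W)) = p → FlatCA.FlatAt Γ(T, O) Q Γ(N, W)) ↔
      ∀ x' : ↑(pullback f g), snd x' = t → fst x' = x → FlatMod.IsFlatOverAt snd N x' := by
    constructor
    · intro H x' hsnd hfst
      have hxW : x' ∈ W := ⟨show fst x' ∈ U from hfst ▸ hx, show snd x' ∈ O from hsnd ▸ htO⟩
      refine (isFlatOverAt_iff_flatAt snd N (QCoh.isQCoh_pullback fst hF) hW hO inf_le_right hxW).2 (H _ ?_ ?_)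
      · have h1 := congrArg PrimeSpectrum.asIdeal
          (IsAffineOpen.comap_primeIdealOf_appLE U hU W hW inf_le_left hxW (f := fst))
        refine h1.trans ?_
        subst hfst
        rfl
      · have h1 := congrArg PrimeSpectrum.asIdeal
          (IsAffineOpen.comap_primeIdealOf_appLE O hO W hW inf_le_right hxW (f := snd))
        refine h1.trans ?_
        subst hsnd
        rfl
    · intro H Q hQ hQq hQp
      obtain ⟨y, hy, hyQ⟩ := QCoh.exists_point hW ⟨Q, hQ⟩
      have hQ' : (hW.primeIdealOf ⟨y, hy⟩).asIdeal = Q := congrArg PrimeSpectrum.asIdeal hyQ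
      have hfst : fst y = x := primeIdealOf_injective hU hy.1 hx
        ((IsAffineOpen.comap_primeIdealOf_appLE U hU W hW inf_le_left hy (f := fst)).symm.trans
          (PrimeSpectrum.ext (by rw [← hQq, ← hQ']; rfl)))
      have hsnd : snd y = t := primeIdealOf_injective hO hy.2 htO
        ((IsAffineOpen.comap_primeIdealOf_appLE O hO W hW inf_le_right hy (f := snd)).symm.trans
          (PrimeSpectrum.ext (by
            show (hW.primeIdealOf ⟨y, hy⟩).asIdeal.comap _ = p
            rw [← hQp, ← hQ']; rfl)))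
      have h1 := (isFlatOverAt_iff_flatAt snd N (QCoh.isQCoh_pullback fst hF) hW hO inf_le_right hy).1 (H y hsnd hfst)
      subst hQ'
      exact h1
  refine hstep.symm.trans (key.trans ?_)
  letI := TopCat.Presheaf.algebra_section_stalk T.presheaf (⟨t, htO⟩ : O)
  haveI := hO.isLocalization_stalk ⟨t, htO⟩
  have hgerm : ∀ a : A, T.presheaf.germ ⊤ t trivial (g.appTop (e.inv a)) =
      algebraMap Γ(T, O) (T.presheaf.stalk t) (algebraMap A Γ(T, O) a) := fun a => by
    show _ = T.presheaf.germ O t htO (g.appLE V O hOV (e.inv a))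
    rw [Scheme.Hom.appLE, CommRingCat.comp_apply]
    exact (T.presheaf.germ_res_apply (homOfLE (le_top : O ≤ ⊤)) t htO _).symm
  rw [Ideal.map_eq_bot_iff_le_ker]
  refine forall₂_congr fun a _ => ?_
  show algebraMap A (Localization.AtPrime p) a = 0 ↔
    T.presheaf.germ ⊤ t trivial (g.appTop (e.inv a)) = 0
  rw [hgerm, IsScalarTower.algebraMap_apply A Γ(T, O), IsLocalization.map_eq_zero_iff p.primeCompl,
    IsLocalization.map_eq_zero_iff p.primeCompl (T.presheaf.stalk t)]

end Groth.Agent.FlatHens
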