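import Groth.Agent.FlatHens.Transfer

/-! The flattening ideal is finitely generated in the finitely presented case. -/

set_option autoImplicit false
set_option backward.isDefEq.respectTransparency false
set_option backward.isDefEq.respectTransparency.types false
attribute [-instance] CategoryTheory.catToReflQuiver
set_option linter.style.haveILetI false

universe u

noncomputable section

open TensorProduct IsLocalRing

namespace Groth.Agent.FlatHens

/-- A finitely presented module over a localisation comes from a finitely presented module. -/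
theorem exists_fp_model {S B : Type u} [CommRing S] [CommRing B] [Algebra S B] (W : Submonoid S) [IsLocalization W B]
    (M : Type u) [AddCommGroup M] [Module B M] [Module S M] [IsScalarTower S B M] [Module.FinitePresentation B M] :
    ∃ (G : Type u) (_ : AddCommGroup G) (_ : Module S G) (_ : Module.FinitePresentation S G) (g : G →ₗ[S] M),
      IsLocalizedModule W g := by
  classical
  obtain ⟨a, π, hπ⟩ := Module.Finite.exists_fin' B M
  obtain ⟨b, z, hz⟩ := Submodule.fg_iff_exists_fin_generating_family.1 (Module.FinitePresentation.fg_ker π hπ)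
  choose t ht using fun j => IsLocalization.exist_integer_multiples_of_finite W (z j)
  choose w hw using ht
  let ι : (Fin a → S) →ₗ[S] (Fin a → B) := LinearMap.pi fun k => (Algebra.linearMap S B).comp (LinearMap.proj k)
  have hι : ∀ v k, ι v k = algebraMap S B (v k) := fun _ _ => rfl
  have hwz : ∀ j, ι (w j) = algebraMap S B (t j) • z j := fun j => funext fun k => by
    rw [hι, hw j k, Pi.smul_apply, Algebra.smul_def, smul_eq_mul]
  let ρ : (Fin a → S) →ₗ[S] M := (π.restrictScalars S).comp ι
  let R : Submodule S (Fin a → S) := Submodule.span S (Set.range w)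
  have hR : R ≤ LinearMap.ker ρ := Submodule.span_le.2 (Set.range_subset_iff.2 fun j => by
    show π (ι (w j)) = 0
    rw [hwz, map_smul, show π (z j) = 0 from (hz ▸ Submodule.subset_span ⟨j, rfl⟩ : z j ∈ LinearMap.ker π), smul_zero])
  let g : ((Fin a → S) ⧸ R) →ₗ[S] M := R.liftQ ρ hR
  haveI : Module.FinitePresentation S ((Fin a → S) ⧸ R) :=
    Module.finitePresentation_of_surjective R.mkQ R.mkQ_surjective (by
      rw [Submodule.ker_mkQ]; exact Submodule.fg_span (Set.finite_range _))
  refine ⟨_, inferInstance, inferInstance, inferInstance, g, ⟨fun d => ?_, fun y => ?_, fun {x₁ x₂} h => ?_⟩⟩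
  · rw [Module.End.isUnit_iff]
    obtain ⟨e, he⟩ := IsLocalization.map_units B d
    have h : ⇑((algebraMap S (Module.End S M)) d) = fun x => (e : B) • x := funext fun x => by
      rw [Module.algebraMap_end_apply, he, algebraMap_smul]
    rw [h]
    exact MulAction.bijective e
  · obtain ⟨v, rfl⟩ := hπ y
    obtain ⟨s, hs⟩ := IsLocalization.exist_integer_multiples_of_finite W v
    choose u hu using hs
    refine ⟨(R.mkQ u, s), ?_⟩
    show (s : S) • π v = π (ι u)
    rw [← algebraMap_smul B, ← map_smul]
    exact congrArg π (funext fun k => by rw [hι, hu k, Pi.smul_apply, algebraMap_smul])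
  · obtain ⟨v₁, rfl⟩ := R.mkQ_surjective x₁
    obtain ⟨v₂, rfl⟩ := R.mkQ_surjective x₂
    have h0 : π (ι (v₁ - v₂)) = 0 := by
      rw [map_sub, map_sub, show π (ι v₁) = π (ι v₂) from h, sub_self]
    obtain ⟨c, hc⟩ := (Submodule.mem_span_range_iff_exists_fun B).1 (hz ▸ h0 : ι (v₁ - v₂) ∈ Submodule.span B (Set.range z))
    let c' : Fin b → B := fun j => c j * (IsLocalization.map_units B (t j)).unit⁻¹
    have hc' : ∑ j, c' j • ι (w j) = ι (v₁ - v₂) := by
      rw [← hc]
      refine Finset.sum_congr rfl fun j _ => ?_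
      rw [hwz, smul_smul, mul_assoc, IsUnit.val_inv_mul, mul_one]
    obtain ⟨s, hs⟩ := IsLocalization.exist_integer_multiples_of_finite W c'
    choose u hu using hs
    let δ : Fin a → S := (s : S) • (v₁ - v₂) - ∑ j, u j • w j
    have hδ : ∀ k, algebraMap S B (δ k) = 0 := fun k => by
      have h1 : ι δ = 0 := by
        simp only [δ]
        rw [map_sub, map_smul, map_sum, ← hc', Finset.smul_sum, sub_eq_zero]
        refine Finset.sum_congr rfl fun j _ => ?_
        rw [map_smul, ← algebraMap_smul B (u j), ← algebraMap_smul B (s : S), smul_smul, hu j, Algebra.smul_def (s : S)]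
      exact congrFun h1 k
    choose e he using fun k => (IsLocalization.map_eq_zero_iff W B (δ k)).1 (hδ k)
    refine ⟨(∏ k, e k) * s, ?_⟩
    show ((((∏ k, e k) * s : W)) : S) • R.mkQ v₁ = ((((∏ k, e k) * s : W)) : S) • R.mkQ v₂
    rw [← sub_eq_zero, ← smul_sub, ← map_sub, ← map_smul, Submodule.mkQ_apply, Submodule.Quotient.mk_eq_zero,
      Submonoid.coe_mul, mul_smul]
    have hE : ((∏ k, e k : W) : S) • δ = 0 := funext fun k => by
      obtain ⟨f, hf⟩ := Finset.dvd_prod_of_mem e (Finset.mem_univ k)
      rw [Pi.smul_apply, hf, Submonoid.coe_mul, mul_comm, smul_eq_mul, mul_assoc, he k, mul_zero]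
      rfl
    have : ((∏ k, e k : W) : S) • ((s : S) • (v₁ - v₂)) = ((∏ k, e k : W) : S) • ∑ j, u j • w j := by
      rw [← sub_eq_zero, ← smul_sub]
      exact hE
    rw [this]
    exact R.smul_mem _ (Submodule.sum_mem _ fun j _ => R.smul_mem _ (Submodule.subset_span ⟨j, rfl⟩))

set_option maxHeartbeats 1600000 in
theorem Flattens.fg {A B : Type u} [CommRing A] [IsLocalRing A] [CommRing B] [IsLocalRing B] [Algebra A B]
    [IsLocalHom (algebraMap A B)] (hB : FlatCA.EssFinitePresentation A B)
    {M : Type u} [AddCommGroup M] [Module B M] [Module A M] [IsScalarTower A B M] [Module.FinitePresentation B M]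
    {I : Ideal A} (hI : Flattens A (maximalIdeal B) M I) : I.FG := by
  classical
  obtain ⟨S₀, _, _, _, _, W, hfp, hW⟩ := hB
  haveI := hfp; haveI := hW
  letI : Module S₀ M := Module.compHom M (algebraMap S₀ B)
  haveI : IsScalarTower S₀ B M := IsScalarTower.of_algebraMap_smul fun _ _ => rfl
  haveI : IsScalarTower A S₀ M := IsScalarTower.of_algebraMap_smul fun a x => by
    show algebraMap S₀ B (algebraMap A S₀ a) • x = a • x
    rw [← IsScalarTower.algebraMap_apply, algebraMap_smul]
  let q : Ideal S₀ := (maximalIdeal B).comap (algebraMap S₀ B)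
  haveI : q.IsPrime := Ideal.IsPrime.comap _
  haveI : IsLocalization q.primeCompl B := IsLocalization.isLocalization_of_is_exists_mul_mem B W q.primeCompl
    (fun w hw h => h (IsLocalization.map_units B ⟨w, hw⟩))
    (fun ⟨d, hd⟩ => by
      obtain ⟨e, he⟩ : IsUnit (algebraMap S₀ B d) := IsLocalRing.notMem_maximalIdeal.1 hd
      obtain ⟨⟨v, w⟩, hvw⟩ := IsLocalization.surj W ((e⁻¹ : Bˣ) : B)
      have h1 : algebraMap S₀ B (v * d) = algebraMap S₀ B (w : S₀) := by
        rw [map_mul, ← hvw, ← he, mul_right_comm, e.inv_mul, one_mul]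
      obtain ⟨c, hc⟩ := (IsLocalization.eq_iff_exists W B).1 h1
      exact ⟨(c : S₀) * v, by rw [mul_assoc, hc]; exact W.mul_mem c.2 w.2⟩)
  obtain ⟨G, _, _, _, g, hg⟩ := exists_fp_model q.primeCompl (B := B) M
  haveI := hg
  letI : Module A G := Module.compHom G (algebraMap A S₀)
  haveI : IsScalarTower A S₀ G := IsScalarTower.of_algebraMap_smul fun _ _ => rfl
  have hIm := hI.le_maximal
  have hmB : (maximalIdeal B).comap (algebraMap A B) = maximalIdeal A := IsLocalRing.maximalIdeal_comap _
  have hflat : Module.Flat (A ⧸ I) ((A ⧸ I) ⊗[A] M) := by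
    haveI := flat_localized_of_flattens (maximalIdeal B) hI hmB
    haveI : IsLocalizedModule (maximalIdeal B).primeCompl (LinearMap.id : M →ₗ[B] M) := ⟨fun d => by
        obtain ⟨e, he⟩ : IsUnit (d : B) := IsLocalRing.notMem_maximalIdeal.1 d.2
        rw [Module.End.isUnit_iff]
        convert MulAction.bijective e (β := M) using 1
        funext x
        rw [Module.algebraMap_end_apply, ← he]
        rfl,
      fun y => ⟨(y, 1), by rw [one_smul]; rfl⟩, fun {x₁ x₂} h => ⟨1, by rw [show x₁ = x₂ from h]⟩⟩
    let e : LocalizedModule (maximalIdeal B).primeCompl M ≃ₗ[B] M :=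
      IsLocalizedModule.iso (maximalIdeal B).primeCompl (LinearMap.id : M →ₗ[B] M)
    exact Module.Flat.of_linearEquiv ((e.restrictScalars A).baseChange A (A ⧸ I)).symm
  let c : Set (Ideal A) := {J | J.FG ∧ J ≤ I}
  have hne : c.Nonempty := ⟨⊥, Submodule.fg_bot, bot_le⟩
  have hdir : DirectedOn (· ≤ ·) c := fun J hJ J' hJ' =>
    ⟨J ⊔ J', ⟨Submodule.FG.sup hJ.1 hJ'.1, sup_le hJ.2 hJ'.2⟩, le_sup_left, le_sup_right⟩
  have hsup : sSup c = I := le_antisymm (sSup_le fun J hJ => hJ.2) fun z hz =>
    (le_sSup (show Ideal.span {z} ∈ c from ⟨Submodule.fg_span (Set.finite_singleton z),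
      (Ideal.span_singleton_le_iff_mem _).2 hz⟩)) (Ideal.mem_span_singleton_self z)
  obtain ⟨J, hJ, hflatJ⟩ := FlatInj.exists_flat_member_directed q g c hne hdir
    (fun J hJ => by
      rw [Ideal.map_le_iff_le_comap, Ideal.comap_comap, ← IsScalarTower.algebraMap_eq, hmB]
      exact hJ.2.trans hIm)
    (hsup.symm ▸ hflat)
  -- `A ⧸ J` flattens
  let C := A ⧸ J
  haveI : Nontrivial C := Ideal.Quotient.nontrivial_iff.2
    (ne_top_of_le_ne_top (maximalIdeal.isMaximal A).ne_top (hJ.2.trans hIm))
  haveI : IsLocalRing C := IsLocalRing.of_surjective' (Ideal.Quotient.mk J) Ideal.Quotient.mk_surjective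
  haveI : IsLocalHom (algebraMap A C) := IsLocalHom.of_surjective _ Ideal.Quotient.mk_surjective
  obtain ⟨BC, MC, _, _, _, _, _, _, _, _, _, _, _, _, f, hp1, hp2, hf⟩ := FlatPure.exists_base_model A C B M
  haveI := hp1; haveI := hp2
  haveI : Module.Flat C MC := Module.Flat.of_linearEquiv
    ((hf.equiv.restrictScalars C).symm ≪≫ₗ Algebra.IsPushout.cancelBaseChange A C B BC M)
  have h0 : I.map (algebraMap A C) = ⊥ := (hI C BC MC f hf).1 fun Q _ _ _ =>
    FlatInj.flat_localizedModule (A := C) Q.primeCompl
  have hle : I ≤ J := fun z hz => by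
    have := Ideal.mem_map_of_mem (algebraMap A C) hz
    rw [h0, Ideal.mem_bot] at this
    exact Ideal.Quotient.eq_zero_iff_mem.1 this
  exact le_antisymm hle hJ.2 ▸ hJ.1

end Groth.Agent.FlatHens
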