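import Groth.Agent.DevExist.Transport
import Groth.Agent.SmoothFree.Irred
import Groth.Agent.DevEtale.Main
import Groth.Agent.S1204

/-! Flatness along the part of a closed fibre lying over a point of a family. -/

set_option autoImplicit false
set_option backward.isDefEq.respectTransparency false
set_option backward.isDefEq.respectTransparency.types false
attribute [-instance] CategoryTheory.catToReflQuiver
set_option linter.style.haveILetI false

universe u

noncomputable section

open TensorProduct IsLocalRing

namespace Groth.Agent.FlatHens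

/-- Flatness at the primes of the closed fibre of `P'` lying over the prime `y` of `P`. -/
def FlatFibre (A' : Type u) [CommRing A'] [IsLocalRing A'] {P : Type u} [CommRing P] (y : Ideal P)
    (P' : Type u) [CommRing P'] [Algebra A' P'] [Algebra P P'] (G' : Type u) [AddCommGroup G'] [Module P' G']
    [Module A' G'] [IsScalarTower A' P' G'] : Prop :=
  ∀ (Q : Ideal P') [Q.IsPrime], Q.comap (algebraMap P P') = y →
    Q.comap (algebraMap A' P') = maximalIdeal A' → FlatCA.FlatAt A' Q G'

variable {A' : Type u} [CommRing A'] [IsLocalRing A']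

/-- The predicate seen through a finite algebra with a single point over the given one. -/
theorem flatFibre_iff_finite {P C P' C' G' : Type u} [CommRing P] [CommRing C] [CommRing P'] [CommRing C']
    [Algebra P C] [Algebra P P'] [Algebra C C'] [Algebra P' C'] [Algebra P C'] [Algebra A' P'] [Algebra A' C']
    [IsScalarTower P C C'] [IsScalarTower P P' C'] [IsScalarTower A' P' C'] [Algebra.IsPushout P P' C C']
    [Module.Finite P C] [AddCommGroup G'] [Module C' G'] [Module P' G'] [IsScalarTower P' C' G'] [Module A' G']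
    [IsScalarTower A' C' G'] [IsScalarTower A' P' G']
    (y : Ideal P) (z : Ideal C) (hzy : z.comap (algebraMap P C) = y)
    (huniq : ∀ (Q : Ideal C) [Q.IsPrime], Q.comap (algebraMap P C) = y → Q = z) :
    FlatFibre A' y P' G' ↔ FlatFibre A' z C' G' := by
  haveI : Module.Finite P' C' :=
    Module.Finite.equiv (Algebra.IsPushout.equiv P P' C C').toLinearEquiv
  have hrestr : ∀ (Q : Ideal P') [Q.IsPrime], FlatCA.FlatAt A' Q G' ↔
      ∀ (Z : Ideal C') [Z.IsPrime], Disjoint ((Q.primeCompl.map (algebraMap P' C') : Submonoid C') : Set C') (Z : Set C') →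
        FlatCA.FlatAt A' Z G' := fun Q _ =>
    (DevEtale.flat_localized_iff_restrict A' Q.primeCompl (Q.primeCompl.map (algebraMap P' C'))
      (fun _ hd => Submonoid.mem_map_of_mem _ hd)
      (fun c ⟨d, hd, hc⟩ => ⟨1, d, hd, by rw [mul_one]; exact hc.symm⟩)).trans
      (FlatClosed.flat_localized_iff A' _)
  constructor
  · intro h Z _ hZz hZm
    haveI : (Z.comap (algebraMap P' C')).IsPrime := Ideal.IsPrime.comap _
    have h1 : (Z.comap (algebraMap P' C')).comap (algebraMap P P') = y := by
      rw [Ideal.comap_comap, ← IsScalarTower.algebraMap_eq, IsScalarTower.algebraMap_eq P C C', ← Ideal.comap_comap,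
        hZz, hzy]
    have h2 : (Z.comap (algebraMap P' C')).comap (algebraMap A' P') = maximalIdeal A' := by
      rw [Ideal.comap_comap, ← IsScalarTower.algebraMap_eq, hZm]
    refine (hrestr _).1 (h _ h1 h2) Z (Set.disjoint_left.2 ?_)
    rintro _ ⟨d, hd, rfl⟩ hdZ
    exact hd hdZ
  · intro h Q _ hQy hQm
    refine (hrestr Q).2 fun Z _ hdisj => ?_
    have hle : Z.comap (algebraMap P' C') ≤ Q := fun d hd => by
      by_contra hdQ
      exact Set.disjoint_left.1 hdisj ⟨d, hdQ, rfl⟩ hd
    obtain ⟨Z₂, hZZ₂, hZ₂, hZ₂Q⟩ := Ideal.exists_ideal_over_prime_of_isIntegral_of_isPrime Q Z hle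
    haveI := hZ₂
    haveI : (Z₂.comap (algebraMap C C')).IsPrime := Ideal.IsPrime.comap _
    have hz : Z₂.comap (algebraMap C C') = z := huniq _ (by
      rw [Ideal.comap_comap, ← IsScalarTower.algebraMap_eq, IsScalarTower.algebraMap_eq P P' C', ← Ideal.comap_comap,
        hZ₂Q, hQy])
    have hm : Z₂.comap (algebraMap A' C') = maximalIdeal A' := by
      rw [IsScalarTower.algebraMap_eq A' P' C', ← Ideal.comap_comap, hZ₂Q, hQm]
    refine (FlatClosed.flat_localized_iff A' Z₂.primeCompl).1 (h Z₂ hz hm) Z (Set.disjoint_left.2 fun c hc hcZ => ?_)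
    exact hc (hZZ₂ hcZ)

/-- There is a point of the closed fibre over a given point of the closed fibre. -/
theorem exists_prime {A P P' : Type u} [CommRing A] [IsLocalRing A] [CommRing P] [CommRing P'] [Algebra A P]
    [Algebra A A'] [IsLocalHom (algebraMap A A')] [Algebra A' P'] [Algebra P P'] [Algebra A P']
    [IsScalarTower A A' P'] [IsScalarTower A P P'] [Algebra.IsPushout A A' P P']
    (y : Ideal P) [y.IsPrime] (hy : y.comap (algebraMap A P) = maximalIdeal A) :
    ∃ Q : Ideal P', Q.IsPrime ∧ Q.comap (algebraMap P P') = y ∧ Q.comap (algebraMap A' P') = maximalIdeal A' := by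
  let k := ResidueField A
  let k' := ResidueField A'
  let κ := y.ResidueField
  let φ : k →+* κ := Ideal.Quotient.lift (maximalIdeal A) (algebraMap A κ) fun a ha => by
    rw [IsScalarTower.algebraMap_apply A P κ, Ideal.algebraMap_residueField_eq_zero]
    exact hy.ge ha
  letI : Algebra k κ := φ.toAlgebra
  haveI : IsScalarTower A k κ := IsScalarTower.of_algebraMap_eq fun _ => rfl
  haveI : Nontrivial κ := inferInstance
  obtain ⟨M, hM⟩ := Ideal.exists_maximal (k' ⊗[k] κ)
  haveI := hM
  let π := Ideal.Quotient.mk M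
  let iL : k' →+* k' ⊗[k] κ := Algebra.TensorProduct.includeLeftRingHom
  let iR : κ →+* k' ⊗[k] κ := (Algebra.TensorProduct.includeRight : κ →ₐ[k] k' ⊗[k] κ).toRingHom
  letI : Algebra A ((k' ⊗[k] κ) ⧸ M) := ((π.comp iL).comp (algebraMap A k')).toAlgebra
  let gL : A' →ₐ[A] (k' ⊗[k] κ) ⧸ M :=
    { (π.comp iL).comp (algebraMap A' k') with
      commutes' := fun a => by
        show π (iL (algebraMap A' k' (algebraMap A A' a))) = π (iL (algebraMap A k' a))
        rw [← IsScalarTower.algebraMap_apply] }
  let gR : P →ₐ[A] (k' ⊗[k] κ) ⧸ M :=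
    { (π.comp iR).comp (algebraMap P κ) with
      commutes' := fun a => by
        show π (iR (algebraMap P κ (algebraMap A P a))) = π (iL (algebraMap A k' a))
        rw [← IsScalarTower.algebraMap_apply A P κ, IsScalarTower.algebraMap_apply A k κ,
          IsScalarTower.algebraMap_apply A k k']
        exact congrArg π (Algebra.TensorProduct.includeRight.commutes (algebraMap A k a)) }
  let ρ : P' →ₐ[A] (k' ⊗[k] κ) ⧸ M := Algebra.pushoutDesc P' gL gR fun _ _ => mul_comm _ _
  refine ⟨RingHom.ker ρ.toRingHom, RingHom.ker_isPrime _, ?_, ?_⟩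
  · ext p
    rw [Ideal.mem_comap, RingHom.mem_ker]
    have h1 : ρ.toRingHom (algebraMap P P' p) = (π.comp iR) (algebraMap P κ p) :=
      Algebra.pushoutDesc_right P' gL gR _ p
    rw [h1, (π.comp iR).injective.eq_iff' (map_zero _), Ideal.algebraMap_residueField_eq_zero]
  · ext a
    rw [Ideal.mem_comap, RingHom.mem_ker]
    have h1 : ρ.toRingHom (algebraMap A' P' a) = (π.comp iL) (residue A' a) :=
      Algebra.pushoutDesc_left P' gL gR _ a
    rw [h1, (π.comp iL).injective.eq_iff' (map_zero _), residue_eq_zero_iff]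

end Groth.Agent.FlatHens
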