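import Groth.Agent.SmoothFree.Irred
import Groth.Agent.FlatDevPad.Alg
import Groth.Agent.RGLib.PureLocal
import Groth.Agent.S0448

/-! The ideal over which a map from a free module over a smooth algebra becomes injective. -/

set_option autoImplicit false
set_option backward.isDefEq.respectTransparency false
set_option backward.isDefEq.respectTransparency.types false
attribute [-instance] CategoryTheory.catToReflQuiver
set_option linter.style.haveILetI false

universe u

noncomputable section

open TensorProduct IsLocalRing

namespace Groth.Agent.FlatHens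

section loc

variable {A P : Type u} [CommRing A] [CommRing P] [Algebra A P] (C : Type u) [AddCommGroup C] [Module A C]
  {G L : Type u} [AddCommGroup G] [Module P G] [Module A G] [IsScalarTower A P G]
  [AddCommGroup L] [Module P L] [Module A L] [IsScalarTower A P L] (W : Submonoid P) (l : G →ₗ[P] L)
  [IsLocalizedModule W l]

theorem comm_lsmul {G : Type u} [AddCommGroup G] [Module P G] [Module A G] [IsScalarTower A P G] (s : P) (v : G ⊗[A] C) :
    ((LinearMap.lsmul P G s).restrictScalars A).lTensor C (TensorProduct.comm A G C v) =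
      TensorProduct.comm A G C (s • v) := by
  induction v using TensorProduct.induction_on with
  | zero => simp
  | add a b ha hb => simp only [map_add, smul_add, ha, hb]
  | tmul g c => rfl

theorem comm_rTensor (v : G ⊗[A] C) :
    (l.restrictScalars A).lTensor C (TensorProduct.comm A G C v) =
      TensorProduct.comm A L C (AlgebraTensorModule.rTensor A C l v) := by
  induction v using TensorProduct.induction_on with
  | zero => simp
  | add a b ha hb => simp only [map_add, ha, hb]
  | tmul g c => rfl

include W in
theorem exists_smul_eq_zero_of_lTensor (v : C ⊗[A] G) (hv : (l.restrictScalars A).lTensor C v = 0) :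
    ∃ s ∈ W, ((LinearMap.lsmul P G s).restrictScalars A).lTensor C v = 0 := by
  obtain ⟨v, rfl⟩ := (TensorProduct.comm A G C).surjective v
  rw [comm_rTensor, LinearEquiv.map_eq_zero_iff] at hv
  obtain ⟨⟨s, hs⟩, h⟩ := (IsLocalizedModule.eq_zero_iff W (AlgebraTensorModule.rTensor A C l)).1 hv
  refine ⟨s, hs, ?_⟩
  rw [comm_lsmul, show s • v = 0 from h, map_zero]

theorem exists_lTensor_eq_smul (z : C ⊗[A] L) :
    ∃ s ∈ W, ∃ w : C ⊗[A] G, ((LinearMap.lsmul P L s).restrictScalars A).lTensor C z = (l.restrictScalars A).lTensor C w := by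
  obtain ⟨z, rfl⟩ := (TensorProduct.comm A L C).surjective z
  obtain ⟨⟨w, s⟩, h⟩ := IsLocalizedModule.surj W (AlgebraTensorModule.rTensor A C l) z
  refine ⟨s, s.2, TensorProduct.comm A G C w, ?_⟩
  rw [comm_lsmul, comm_rTensor]
  exact congrArg _ h

end loc

/-- A map with flat cokernel is injective after tensoring as soon as its kernel dies. -/
theorem lTensor_injective_of_kernel {R F M C : Type u} [CommRing R] [AddCommGroup F] [Module R F] [AddCommGroup M]
    [Module R M] [AddCommGroup C] [Module R C] [Module.Flat R C] (u : F →ₗ[R] M) (q : M →ₗ[R] C)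
    (hex : Function.Exact u q) (hq : Function.Surjective q) (X : Type u) [AddCommGroup X] [Module R X]
    (hk : ∀ z, u z = 0 → ∀ t : X, t ⊗ₜ[R] z = 0) : Function.Injective (u.lTensor X) := by
  let i := (LinearMap.range u).subtype
  have hexi : Function.Exact i q := fun v => by
    rw [hex v]
    exact ⟨fun ⟨w, hw⟩ => ⟨⟨v, w, hw⟩, rfl⟩, fun ⟨⟨_, w, hw⟩, hv⟩ => ⟨w, hw.trans hv⟩⟩
  have hiX : Function.Injective (i.lTensor X) :=
    LinearMap.lTensor_injective_of_exact_of_flat q hq i (Submodule.subtype_injective _) hexi X
  rw [injective_iff_map_eq_zero]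
  intro v hv
  have h8 : (u.rangeRestrict).lTensor X v = 0 := hiX (by
    rw [← LinearMap.comp_apply, ← LinearMap.lTensor_comp, LinearMap.subtype_comp_codRestrict, map_zero]
    exact hv)
  obtain ⟨k, hk'⟩ := (lTensor_exact X (f := (LinearMap.ker u.rangeRestrict).subtype) (g := u.rangeRestrict)
    (LinearMap.exact_subtype_ker_map u.rangeRestrict) (LinearMap.surjective_rangeRestrict u) _).1 h8
  rw [← hk']
  clear hk' h8 hv
  induction k using TensorProduct.induction_on with
  | zero => exact map_zero _
  | add a b ha hb => rw [map_add, ha, hb, add_zero]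
  | tmul t z =>
    rw [LinearMap.lTensor_tmul, Submodule.subtype_apply]
    exact hk z.1 (congrArg Subtype.val z.2) t

variable {A B : Type u} [CommRing A] [IsLocalRing A] [CommRing B] [Algebra A B] [Algebra.Smooth A B]

/-- Localisation at a point over the maximal ideal is universally injective on free modules over the algebra. -/
theorem lTensor_localization_injective (hirr : FlatCA.GeomIrredFibres A B) (y : Ideal B) [y.IsPrime]
    (hy : y.comap (algebraMap A B) = maximalIdeal A) {r : ℕ} {L : Type u} [AddCommGroup L] [Module B L] [Module A L]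
    [IsScalarTower A B L] (l : (Fin r → B) →ₗ[B] L) [IsLocalizedModule y.primeCompl l] (X : Type u) [AddCommGroup X]
    [Module A X] : Function.Injective ((l.restrictScalars A).lTensor X) := by
  let F := Fin r → B
  haveI : Module.Free A B := SmoothFree.free_of_geomIrred hirr
  haveI : Module.Free A F := inferInstance
  rw [injective_iff_map_eq_zero]
  intro v hv
  obtain ⟨s, hs, hsv⟩ := exists_smul_eq_zero_of_lTensor X y.primeCompl l v hv
  have hP : ((maximalIdeal A).map (algebraMap A B)).IsPrime := FlatDevPad.isPrime_map A B hirr (maximalIdeal A)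
  let φ : F →ₗ[A] F := (LinearMap.lsmul B F s).restrictScalars A
  have hsm : s ∉ (maximalIdeal A).map (algebraMap A B) := fun h =>
    hs ((Ideal.map_le_iff_le_comap.2 hy.ge) h)
  have hφ : Function.Injective (φ.lTensor (ResidueField A)) := by
    let mB := (maximalIdeal A).map (algebraMap A B)
    let Fb := F ⧸ (mB • ⊤ : Submodule B F)
    have hinj : ∀ f : F, s • f ∈ (mB • ⊤ : Submodule B F) → f ∈ (mB • ⊤ : Submodule B F) := by
      intro f hf
      have hcoord : ∀ g : F, g ∈ (mB • ⊤ : Submodule B F) ↔ ∀ i, g i ∈ mB := fun g => by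
        refine ⟨fun hg i => ?_, fun hg => ?_⟩
        · refine Submodule.smul_induction_on hg (fun a ha n _ => ?_) (fun a b ha hb => Ideal.add_mem _ ha hb)
          exact Ideal.mul_mem_right _ _ ha
        · rw [pi_eq_sum_univ' g]
          exact Submodule.sum_mem _ fun i _ => Submodule.smul_mem_smul (hg i) trivial
      rw [hcoord] at hf ⊢
      exact fun i => (hP.mem_or_mem (hf i)).resolve_left hsm
    have hsub : (mB • ⊤ : Submodule B F).restrictScalars A = maximalIdeal A • ⊤ := by
      rw [Submodule.restrictScalars_map_smul_eq, Submodule.restrictScalars_top]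
    rw [injective_iff_map_eq_zero]
    intro z hz
    let e := TensorProduct.quotTensorEquivQuotSMul F (maximalIdeal A)
    obtain ⟨f, hf⟩ := Submodule.Quotient.mk_surjective _ (e z)
    have hz' : z = Ideal.Quotient.mk (maximalIdeal A) 1 ⊗ₜ[A] f := e.injective (by
      rw [← hf, TensorProduct.quotTensorEquivQuotSMul_mk_tmul, one_smul])
    subst hz'
    rw [LinearMap.lTensor_tmul] at hz
    have h1 := congrArg e hz
    rw [map_zero, TensorProduct.quotTensorEquivQuotSMul_mk_tmul, one_smul, Submodule.Quotient.mk_eq_zero, ← hsub] at h1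
    apply e.injective
    rw [map_zero, TensorProduct.quotTensorEquivQuotSMul_mk_tmul, one_smul, Submodule.Quotient.mk_eq_zero, ← hsub]
    exact hinj f h1
  exact (LinearMap.lTensor_inj_iff_rTensor_inj X φ).2 (Groth.Agent.S0448.result φ hφ X) (hsv.trans (map_zero _).symm)

set_option maxHeartbeats 1600000 in
/-- Given flatness of the localised cokernel modulo `I`, an ideal cuts out where the map is injective. -/
theorem exists_ideal_injective (hirr : FlatCA.GeomIrredFibres A B) (y : Ideal B) [y.IsPrime]
    (hy : y.comap (algebraMap A B) = maximalIdeal A) {r : ℕ} {M : Type u} [AddCommGroup M] [Module B M] [Module A M]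
    [IsScalarTower A B M] (u : (Fin r → B) →ₗ[B] M) (I : Ideal A)
    (hC : Module.Flat (A ⧸ I) ((A ⧸ I) ⊗[A] LocalizedModule y.primeCompl (M ⧸ LinearMap.range u))) :
    ∃ J : Ideal A, I ≤ J ∧ ∀ (X : Type u) [CommRing X] [Algebra A X], I.map (algebraMap A X) = ⊥ →
      (Function.Injective ((u.restrictScalars A).lTensor X) ↔ J.map (algebraMap A X) = ⊥) := by
  let F := Fin r → B
  let A1 := A ⧸ I
  haveI : Module.Free A B := SmoothFree.free_of_geomIrred hirr
  haveI : Module.Free A F := inferInstance
  let b := Module.Free.chooseBasis A F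
  let bb := b.baseChange A1
  let u1 := (u.restrictScalars A).baseChange A1
  let c : Set A1 := {a | ∃ x i, u1 x = 0 ∧ bb.repr x i = a}
  let J : Ideal A := (Ideal.span c).comap (Ideal.Quotient.mk I)
  have hIJ : I ≤ J := fun a ha => by
    rw [Ideal.mem_comap, Ideal.Quotient.eq_zero_iff_mem.2 ha]
    exact zero_mem _
  refine ⟨J, hIJ, fun X _ _ hX => ?_⟩
  let h : A1 →ₐ[A] X := Ideal.Quotient.liftₐ I (Algebra.ofId A X) fun a ha => by
    have := Ideal.mem_map_of_mem (algebraMap A X) ha
    rwa [hX, Ideal.mem_bot] at this
  letI : Algebra A1 X := h.toRingHom.toAlgebra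
  haveI : IsScalarTower A A1 X := IsScalarTower.of_algebraMap_eq fun a => (h.commutes a).symm
  have hJ : J.map (algebraMap A X) = ⊥ ↔ ∀ a ∈ c, algebraMap A1 X a = 0 := by
    rw [← le_bot_iff, Ideal.map_le_iff_le_comap]
    constructor
    · intro hJ a ha
      obtain ⟨a, rfl⟩ := Ideal.Quotient.mk_surjective a
      have := hJ (show a ∈ J from Ideal.subset_span ha)
      rw [Ideal.mem_comap, Ideal.mem_bot, IsScalarTower.algebraMap_apply A A1 X] at this
      exact this
    · intro hc a ha
      rw [Ideal.mem_comap, Ideal.mem_bot, IsScalarTower.algebraMap_apply A A1 X]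
      have : Ideal.span c ≤ RingHom.ker (algebraMap A1 X) := Ideal.span_le.2 hc
      exact this ha
  rw [hJ, ← RGLib.lTensor_baseChange_iff (A1 := A1) (u.restrictScalars A) X]
  constructor
  · rintro hinj a ⟨x, i, hx, rfl⟩
    have h0 : (1 : X) ⊗ₜ[A1] x = 0 := hinj (by rw [LinearMap.lTensor_tmul, show u1 x = 0 from hx, tmul_zero, map_zero])
    have h1 := congrArg (fun v => (bb.baseChange X).repr v i) h0
    simp only [map_zero, Finsupp.coe_zero, Pi.zero_apply, Module.Basis.baseChange_repr_tmul] at h1
    rw [Algebra.smul_def, mul_one] at h1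
    exact h1
  · intro hc
    have hK : ∀ x, u1 x = 0 → (1 : X) ⊗ₜ[A1] x = 0 := fun x hx => by
      refine (bb.baseChange X).repr.map_eq_zero_iff.1 (Finsupp.ext fun i => ?_)
      rw [Module.Basis.baseChange_repr_tmul, Finsupp.zero_apply, Algebra.smul_def, mul_one]
      exact hc _ ⟨x, i, hx, rfl⟩
    -- localise at the point
    let W := y.primeCompl
    let Fy := LocalizedModule W F
    let My := LocalizedModule W M
    let C := M ⧸ LinearMap.range u
    let Cy := LocalizedModule W C
    let lF := LocalizedModule.mkLinearMap W F
    let lM := LocalizedModule.mkLinearMap W M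
    let uy : Fy →ₗ[B] My := IsLocalizedModule.map W lF lM u
    let qy : My →ₗ[B] Cy := IsLocalizedModule.map W lM (LocalizedModule.mkLinearMap W C) (LinearMap.range u).mkQ
    have hex : Function.Exact uy qy :=
      IsLocalizedModule.map_exact W lF lM (LocalizedModule.mkLinearMap W C) u (LinearMap.range u).mkQ
        (LinearMap.exact_map_mkQ_range u)
    have hsur : Function.Surjective qy := IsLocalizedModule.map_surjective _ _ _ _ (Submodule.mkQ_surjective _)
    let uy1 := (uy.restrictScalars A).baseChange A1
    let qy1 := (qy.restrictScalars A).baseChange A1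
    have hex1 : Function.Exact uy1 qy1 :=
      lTensor_exact A1 (f := uy.restrictScalars A) (g := qy.restrictScalars A) hex hsur
    have hsur1 : Function.Surjective qy1 := LinearMap.lTensor_surjective A1 (g := qy.restrictScalars A) hsur
    haveI : Module.Flat A1 (A1 ⊗[A] Cy) := hC
    -- commutation with the localisation maps
    have hcomm : ∀ v, uy1 ((lF.restrictScalars A).baseChange A1 v) = (lM.restrictScalars A).baseChange A1 (u1 v) := by
      intro v
      induction v using TensorProduct.induction_on with
      | zero => simp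
      | add a b ha hb => simp only [map_add, ha, hb]
      | tmul a f =>
        show a ⊗ₜ[A] uy (lF f) = a ⊗ₜ[A] lM (u f)
        rw [IsLocalizedModule.map_apply]
    have hkill : ∀ z, uy1 z = 0 → (1 : X) ⊗ₜ[A1] z = 0 := by
      intro z hz
      obtain ⟨s, hs, w, hw⟩ := exists_lTensor_eq_smul (A := A) A1 W lF z
      let σ : Fy →ₗ[A] Fy := (LinearMap.lsmul B Fy s).restrictScalars A
      have hσ : ∀ v, uy1 (σ.lTensor A1 v) = ((LinearMap.lsmul B My s).restrictScalars A).lTensor A1 (uy1 v) := by
        intro v
        induction v using TensorProduct.induction_on with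
        | zero => simp
        | add a b ha hb => simp only [map_add, ha, hb]
        | tmul a f =>
          show a ⊗ₜ[A] uy (s • f) = a ⊗ₜ[A] (s • uy f)
          rw [map_smul]
      have h1 : (lM.restrictScalars A).lTensor A1 (u1 w) = 0 := by
        rw [show (lM.restrictScalars A).lTensor A1 (u1 w) = uy1 ((lF.restrictScalars A).lTensor A1 w) from (hcomm w).symm,
          ← hw, hσ, hz, map_zero]
      obtain ⟨s', hs', h2⟩ := exists_smul_eq_zero_of_lTensor A1 W lM (u1 w) h1
      let w' : A1 ⊗[A] F := ((LinearMap.lsmul B F s').restrictScalars A).baseChange A1 w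
      have h3 : u1 w' = 0 := by
        rw [← h2]
        clear h1 h2 hw
        simp only [w']
        induction w using TensorProduct.induction_on with
        | zero => simp
        | add a b ha hb => simp only [map_add, ha, hb]
        | tmul a f =>
          show a ⊗ₜ[A] u (s' • f) = a ⊗ₜ[A] (s' • u f)
          rw [map_smul]
      let τ := ((LinearMap.lsmul B Fy (s' * s)).restrictScalars A).baseChange A1
      have h4 : τ z = (lF.restrictScalars A).baseChange A1 w' := by
        have h5 : τ z = ((LinearMap.lsmul B Fy s').restrictScalars A).lTensor A1 (σ.lTensor A1 z) := by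
          rw [← LinearMap.comp_apply, ← LinearMap.lTensor_comp]
          refine congrArg (fun φ : Fy →ₗ[A] Fy => φ.lTensor A1 z) (LinearMap.ext fun f => ?_)
          exact mul_smul s' s f
        rw [h5, hw]
        simp only [w']
        clear h1 h2 h3 h5 hw
        induction w using TensorProduct.induction_on with
        | zero => simp
        | add a b ha hb => simp only [map_add, ha, hb]
        | tmul a f =>
          show a ⊗ₜ[A] (s' • lF f) = a ⊗ₜ[A] lF (s' • f)
          rw [map_smul]
      have hu : IsUnit τ := by
        have hunit := IsLocalizedModule.map_units lF (⟨s' * s, W.mul_mem hs' hs⟩ : W)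
        rw [Module.End.isUnit_iff] at hunit
        rw [Module.End.isUnit_iff]
        let e : Fy ≃ₗ[A] Fy := LinearEquiv.ofBijective ((LinearMap.lsmul B Fy (s' * s)).restrictScalars A) hunit
        exact (e.baseChange A A1).bijective
      have h6 : τ.lTensor X ((1 : X) ⊗ₜ[A1] z) = 0 := by
        rw [LinearMap.lTensor_tmul, h4, ← LinearMap.lTensor_tmul, hK w' h3, map_zero]
      rw [Module.End.isUnit_iff] at hu
      exact ((LinearEquiv.ofBijective τ hu).lTensor X).map_eq_zero_iff.1 h6
    rw [injective_iff_map_eq_zero]
    intro v hv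
    let lF1 := (lF.restrictScalars A).baseChange A1
    have hF : Function.Injective (lF1.lTensor X) := (RGLib.lTensor_baseChange_iff (A1 := A1) (lF.restrictScalars A) X).2
      (lTensor_localization_injective hirr y hy lF X)
    refine hF ?_
    rw [map_zero]
    have h7 : uy1.lTensor X (lF1.lTensor X v) = 0 := by
      rw [← LinearMap.comp_apply, ← LinearMap.lTensor_comp,
        show uy1.comp lF1 = ((lM.restrictScalars A).baseChange A1).comp u1 from LinearMap.ext hcomm,
        LinearMap.lTensor_comp, LinearMap.comp_apply, hv, map_zero]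
    refine lTensor_injective_of_kernel uy1 qy1 hex1 hsur1 X (fun z hz t => ?_) (h7.trans (map_zero _).symm)
    rw [show t = t • (1 : X) by rw [smul_eq_mul, mul_one], ← TensorProduct.smul_tmul', hkill z hz, smul_zero]

end Groth.Agent.FlatHens
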