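import Groth.Agent.FlatHens.Fibre
import Groth.Agent.FlatHens.Kernel
import Groth.Agent.FlatInj.Chain
import Groth.Agent.DevExist.BaseChange
import Groth.Agent.FlatPure.Model
import Groth.Agent.DevFree.Main
import Groth.Agent.DevExist.LiftNhd

/-! The flattening ideal of a module with a complete dévissage at a point. -/

set_option autoImplicit false
set_option backward.isDefEq.respectTransparency false
set_option backward.isDefEq.respectTransparency.types false
attribute [-instance] CategoryTheory.catToReflQuiver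
set_option linter.style.haveILetI false

universe u

noncomputable section

open TensorProduct IsLocalRing

namespace Groth.Agent.FlatHens

variable {A : Type u} [CommRing A] [IsLocalRing A]

/-- The ideal `I` cuts out flatness along the fibre over `q`. -/
def Flattens (A : Type u) [CommRing A] [IsLocalRing A] {S : Type u} [CommRing S] [Algebra A S] (q : Ideal S)
    (N : Type u) [AddCommGroup N] [Module S N] (I : Ideal A) : Prop :=
  ∀ (A' S' N' : Type u) [CommRing A'] [IsLocalRing A'] [Algebra A A'] [IsLocalHom (algebraMap A A')]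
    [CommRing S'] [Algebra A' S'] [Algebra A S'] [Algebra S S'] [IsScalarTower A A' S'] [IsScalarTower A S S']
    [Algebra.IsPushout A A' S S']
    [AddCommGroup N'] [Module S' N'] [Module S N'] [IsScalarTower S S' N'] [Module A' N'] [IsScalarTower A' S' N']
    (f : N →ₗ[S] N'), IsBaseChange S' f → (FlatFibre A' q S' N' ↔ I.map (algebraMap A A') = ⊥)

/-- A flattening ideal is contained in the maximal ideal. -/
theorem Flattens.le_maximal {S : Type u} [CommRing S] [Algebra A S] {q : Ideal S} {N : Type u} [AddCommGroup N]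
    [Module S N] {I : Ideal A} (h : Flattens A q N I) : I ≤ maximalIdeal A := by
  let k := ResidueField A
  haveI : IsLocalHom (algebraMap A k) := IsLocalHom.of_surjective _ residue_surjective
  obtain ⟨S', N', _, _, _, _, _, _, _, _, _, _, _, _, f, hp1, hp2, hf⟩ := FlatPure.exists_base_model A k S N
  haveI := hp1
  have h1 := (h k S' N' f hf).1 fun Q _ _ _ =>
    (inferInstance : Module.Flat k (LocalizedModule Q.primeCompl N'))
  intro a ha
  have := Ideal.mem_map_of_mem (algebraMap A k) ha
  rw [h1, Ideal.mem_bot] at this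
  exact (residue_eq_zero_iff a).1 this

theorem flatFibre_equiv {A' P P' G G' : Type u} [CommRing A'] [IsLocalRing A'] [CommRing P] [CommRing P']
    [Algebra A' P'] [Algebra P P'] [AddCommGroup G] [Module P' G] [Module A' G] [IsScalarTower A' P' G]
    [AddCommGroup G'] [Module P' G'] [Module A' G'] [IsScalarTower A' P' G'] (e : G ≃ₗ[P'] G') (y : Ideal P) :
    FlatFibre A' y P' G ↔ FlatFibre A' y P' G' :=
  ⟨fun h Q _ h1 h2 => (DevFree.flatAt_equiv A' e Q).1 (h Q h1 h2),
    fun h Q _ h1 h2 => (DevFree.flatAt_equiv A' e Q).2 (h Q h1 h2)⟩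

set_option maxHeartbeats 1600000 in
/-- Flatness of the localised module over the quotient cut out by a flattening ideal. -/
theorem flat_localized_of_flattens {S : Type u} [CommRing S] [Algebra A S] (q : Ideal S) [q.IsPrime]
    {N : Type u} [AddCommGroup N] [Module S N] [Module A N] [IsScalarTower A S N] {I : Ideal A} (h : Flattens A q N I)
    (hq : q.comap (algebraMap A S) = maximalIdeal A) :
    Module.Flat (A ⧸ I) ((A ⧸ I) ⊗[A] LocalizedModule q.primeCompl N) := by
  have hI := h.le_maximal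
  let C := A ⧸ I
  haveI : Nontrivial C := Ideal.Quotient.nontrivial_iff.2
    (ne_top_of_le_ne_top (maximalIdeal.isMaximal A).ne_top hI)
  haveI : IsLocalRing C := IsLocalRing.of_surjective' (Ideal.Quotient.mk I) Ideal.Quotient.mk_surjective
  have hs : Function.Surjective (algebraMap A C) := Ideal.Quotient.mk_surjective
  haveI : IsLocalHom (algebraMap A C) := IsLocalHom.of_surjective _ hs
  obtain ⟨PC, GC, _, _, _, _, _, _, _, _, _, _, _, _, f, hpo1, hpo2, hf⟩ := FlatPure.exists_base_model A C S N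
  haveI := hpo1; haveI := hpo2
  letI : Module A GC := Module.compHom GC (algebraMap A C)
  haveI : IsScalarTower A C GC := IsScalarTower.of_algebraMap_smul fun _ _ => rfl
  haveI : IsScalarTower A S GC := IsScalarTower.of_algebraMap_smul fun a x => by
    show algebraMap A S a • x = algebraMap A C a • x
    rw [← algebraMap_smul PC (algebraMap A S a), ← algebraMap_smul PC (algebraMap A C a),
      ← IsScalarTower.algebraMap_apply, ← IsScalarTower.algebraMap_apply]
  have hI0 : I.map (algebraMap A C) = ⊥ := by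
    rw [Ideal.Quotient.algebraMap_eq, Ideal.map_quotient_self]
  have hff := (h C PC GC f hf).2 hI0
  refine (FlatInj.flat_localized_quot_iff hs f hf q.primeCompl (LocalizedModule.mkLinearMap q.primeCompl N)).1 ?_
  refine (FlatClosed.flat_localized_iff C _).2 fun Z _ hdisj => ?_
  have hsP : Function.Surjective (algebraMap S PC) := FlatPure.surjective_of_isPushout (R := A) (R' := C) hs
  haveI : Module.Finite S PC := Module.Finite.of_surjective (Algebra.linearMap S PC) hsP
  have hle : Z.comap (algebraMap S PC) ≤ q := fun d hd => by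
    by_contra hdQ
    exact Set.disjoint_left.1 hdisj ⟨d, hdQ, rfl⟩ hd
  obtain ⟨Q, hZQ, hQ, hQq⟩ := Ideal.exists_ideal_over_prime_of_isIntegral_of_isPrime q Z hle
  haveI := hQ
  have hQm : Q.comap (algebraMap C PC) = maximalIdeal C := by
    have h1 : (Q.comap (algebraMap C PC)).comap (algebraMap A C) = maximalIdeal A := by
      rw [Ideal.comap_comap, ← IsScalarTower.algebraMap_eq, IsScalarTower.algebraMap_eq A S PC, ← Ideal.comap_comap,
        hQq, hq]
    refine Ideal.comap_injective_of_surjective _ hs (h1.trans ?_)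
    exact (IsLocalRing.maximalIdeal_comap (algebraMap A C)).symm
  refine (FlatClosed.flat_localized_iff C Q.primeCompl).1 (hff Q hQq hQm) Z (Set.disjoint_left.2 fun c hc hcZ => ?_)
  exact hc (hZQ hcZ)

set_option maxHeartbeats 3200000 in
/-- One step: injectivity of the map from the free module and flatness of the cokernel. -/
theorem flatFibre_step {S : Type u} [CommRing S] [Algebra A S] {q : Ideal S} {N : Type u} [AddCommGroup N] [Module S N]
    (σ : DevExist.Step A (maximalIdeal A) S q N) [Module A σ.M] [IsScalarTower A σ.B σ.M]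
    (A' S' N' : Type u) [CommRing A'] [IsLocalRing A'] [Algebra A A'] [IsLocalHom (algebraMap A A')]
    [CommRing S'] [Algebra A' S'] [Algebra A S'] [Algebra S S'] [IsScalarTower A A' S'] [IsScalarTower A S S']
    [Algebra.IsPushout A A' S S']
    [AddCommGroup N'] [Module S' N'] [Module S N'] [IsScalarTower S S' N'] [Module A' N'] [IsScalarTower A' S' N']
    (f : N →ₗ[S] N') (hf : IsBaseChange S' f) :
    ∃ (B' C' : Type u) (_ : CommRing B') (_ : Algebra A' B') (_ : Algebra A B') (_ : Algebra σ.B B')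
      (_ : IsScalarTower A A' B') (_ : IsScalarTower A σ.B B') (_ : Algebra.IsPushout A A' σ.B B')
      (_ : AddCommGroup C') (_ : Module B' C') (_ : Module σ.B C') (_ : IsScalarTower σ.B B' C')
      (_ : Module A' C') (_ : IsScalarTower A' B' C') (l : (σ.M ⧸ LinearMap.range σ.α) →ₗ[σ.B] C'),
      IsBaseChange B' l ∧
      (FlatFibre A' q S' N' ↔
        Function.Injective ((σ.α.restrictScalars A).lTensor A') ∧ FlatFibre A' σ.y B' C') := by
  haveI := σ.smooth
  haveI := σ.finiteBA
  haveI := σ.finiteM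
  haveI := σ.finite_M
  let m := maximalIdeal A
  let m' := maximalIdeal A'
  haveI hmm : m'.LiesOver m := ⟨(IsLocalRing.maximalIdeal_comap (algebraMap A A')).symm⟩
  -- the models
  obtain ⟨B', M', _, _, _, _, _, _, _, _, _, _, _, _, lM, hpB, -, hlB⟩ := FlatPure.exists_base_model A A' σ.B σ.M
  haveI := hpB
  obtain ⟨A₂, _, _, _, _, _, _, hA1, hA2⟩ : ∃ (A₂ : Type u) (_ : CommRing A₂) (_ : Algebra σ.A A₂) (_ : Algebra B' A₂)
      (_ : Algebra σ.B A₂) (_ : IsScalarTower σ.B B' A₂) (_ : IsScalarTower σ.B σ.A A₂),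
      Algebra.IsPushout σ.B B' σ.A A₂ ∧ Algebra.IsPushout σ.B σ.A B' A₂ := by
    letI : Algebra σ.A (B' ⊗[σ.B] σ.A) := Algebra.TensorProduct.rightAlgebra
    haveI : IsScalarTower σ.B σ.A (B' ⊗[σ.B] σ.A) := Algebra.TensorProduct.right_isScalarTower
    have hp : Algebra.IsPushout σ.B B' σ.A (B' ⊗[σ.B] σ.A) :=
      TensorProduct.isPushout (R := σ.B) (S := B') (T := σ.A)
    exact ⟨B' ⊗[σ.B] σ.A, inferInstance, inferInstance, inferInstance, inferInstance, inferInstance, inferInstance,
      hp, Algebra.IsPushout.symm hp⟩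
  haveI := hA1; haveI := hA2
  letI : Algebra A A₂ := ((algebraMap B' A₂).comp (algebraMap A B')).toAlgebra
  haveI : IsScalarTower A B' A₂ := IsScalarTower.of_algebraMap_eq' rfl
  haveI : IsScalarTower A σ.A A₂ := IsScalarTower.of_algebraMap_eq fun a => by
    rw [IsScalarTower.algebraMap_apply A σ.B σ.A, ← IsScalarTower.algebraMap_apply σ.B σ.A A₂,
      IsScalarTower.algebraMap_apply σ.B B' A₂, ← IsScalarTower.algebraMap_apply A σ.B B']
    rfl
  letI : Algebra A' A₂ := ((algebraMap B' A₂).comp (algebraMap A' B')).toAlgebra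
  haveI : IsScalarTower A' B' A₂ := IsScalarTower.of_algebraMap_eq' rfl
  haveI : IsScalarTower A A' A₂ := IsScalarTower.of_algebraMap_eq fun a => by
    show algebraMap B' A₂ (algebraMap A B' a) = algebraMap B' A₂ (algebraMap A' B' (algebraMap A A' a))
    rw [← IsScalarTower.algebraMap_apply A A' B']
  haveI : Algebra.IsPushout A A' σ.A A₂ := by
    haveI : Algebra.IsPushout A σ.B A' B' := Algebra.IsPushout.symm inferInstance
    haveI : Algebra.IsPushout A σ.A A' A₂ := DevExist.isPushout_trans A σ.B σ.A A' B' A₂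
    exact Algebra.IsPushout.symm inferInstance
  let g : S →ₐ[A] A₂ := (IsScalarTower.toAlgHom A σ.A A₂).comp (IsScalarTower.toAlgHom A S σ.A)
  let ψ : S' →ₐ[A] A₂ := Algebra.pushoutDesc S' (IsScalarTower.toAlgHom A A' A₂) g fun _ _ => mul_comm _ _
  letI : Algebra S' A₂ := ψ.toRingHom.toAlgebra
  letI : Algebra S A₂ := g.toRingHom.toAlgebra
  haveI : IsScalarTower S σ.A A₂ := IsScalarTower.of_algebraMap_eq' rfl
  haveI : IsScalarTower A' S' A₂ := IsScalarTower.of_algebraMap_eq fun a =>
    (Algebra.pushoutDesc_left S' (IsScalarTower.toAlgHom A A' A₂) g (fun _ _ => mul_comm _ _) a).symm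
  haveI : IsScalarTower S S' A₂ := IsScalarTower.of_algebraMap_eq fun s =>
    (Algebra.pushoutDesc_right S' (IsScalarTower.toAlgHom A A' A₂) g (fun _ _ => mul_comm _ _) s).symm
  haveI : Algebra.IsPushout S S' σ.A A₂ := by
    haveI : Algebra.IsPushout A S A' S' := Algebra.IsPushout.symm inferInstance
    haveI : Algebra.IsPushout A σ.A A' A₂ := Algebra.IsPushout.symm inferInstance
    haveI : Algebra.IsPushout S σ.A S' A₂ := FlatClosed.isPushout_cancel A S σ.A A' S' A₂
    exact Algebra.IsPushout.symm inferInstance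
  obtain ⟨M₂, _, _, _, _, l, hl⟩ : ∃ (M₂ : Type u) (_ : AddCommGroup M₂) (_ : Module A₂ M₂) (_ : Module σ.A M₂)
      (_ : IsScalarTower σ.A A₂ M₂) (l : σ.M →ₗ[σ.A] M₂), IsBaseChange A₂ l :=
    ⟨A₂ ⊗[σ.A] σ.M, inferInstance, inferInstance, inferInstance, inferInstance,
      TensorProduct.mk σ.A A₂ σ.M 1, TensorProduct.isBaseChange σ.A σ.M A₂⟩
  letI : Module B' M₂ := Module.compHom M₂ (algebraMap B' A₂)
  haveI : IsScalarTower B' A₂ M₂ := IsScalarTower.of_algebraMap_smul fun _ _ => rfl
  letI : Module σ.B M₂ := Module.compHom M₂ (algebraMap σ.B A₂)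
  haveI : IsScalarTower σ.B A₂ M₂ := IsScalarTower.of_algebraMap_smul fun _ _ => rfl
  haveI : IsScalarTower σ.B B' M₂ := IsScalarTower.to₁₂₄ σ.B B' A₂ M₂
  haveI : IsScalarTower σ.B σ.A M₂ := IsScalarTower.to₁₂₄ σ.B σ.A A₂ M₂
  letI : Module S' M₂ := Module.compHom M₂ (algebraMap S' A₂)
  haveI : IsScalarTower S' A₂ M₂ := IsScalarTower.of_algebraMap_smul fun _ _ => rfl
  letI : Module S M₂ := Module.compHom M₂ (algebraMap S A₂)
  haveI : IsScalarTower S A₂ M₂ := IsScalarTower.of_algebraMap_smul fun _ _ => rfl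
  haveI : IsScalarTower S S' M₂ := IsScalarTower.to₁₂₄ S S' A₂ M₂
  haveI : IsScalarTower S σ.A M₂ := IsScalarTower.to₁₂₄ S σ.A A₂ M₂
  letI : Module A' M₂ := Module.compHom M₂ (algebraMap A' A₂)
  haveI : IsScalarTower A' A₂ M₂ := IsScalarTower.of_algebraMap_smul fun _ _ => rfl
  haveI : IsScalarTower A' B' M₂ := IsScalarTower.to₁₂₄ A' B' A₂ M₂
  haveI : IsScalarTower A' S' M₂ := IsScalarTower.to₁₂₄ A' S' A₂ M₂
  let lB : σ.M →ₗ[σ.B] M₂ := l.restrictScalars σ.B
  have hlB₂ : IsBaseChange B' lB := FlatClosed.isBaseChange_restrict σ.B B' σ.A A₂ σ.M M₂ l hl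
  have hlS : IsBaseChange S' (l.restrictScalars S) := FlatClosed.isBaseChange_restrict S S' σ.A A₂ σ.M M₂ l hl
  let eN : N' ≃ₗ[S'] M₂ := hf.equiv.symm ≪≫ₗ
    TensorProduct.AlgebraTensorModule.congr (LinearEquiv.refl S' S') σ.isoN ≪≫ₗ hlS.equiv
  -- the map and its cokernel
  let α' : (Fin σ.r → B') →ₗ[B'] M₂ := FlatDevPad.extendMap lB σ.α
  let C' := M₂ ⧸ LinearMap.range α'
  let c := (LinearMap.range σ.α).mkQ
  let l₁ := TensorProduct.mk σ.B B' (σ.M ⧸ LinearMap.range σ.α) 1
  obtain ⟨hsu, hke⟩ := FlatDevPad.coker_extend lB σ.α hlB₂ c (Submodule.mkQ_surjective _) (fun x => by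
      rw [Submodule.mkQ_apply, Submodule.Quotient.mk_eq_zero, LinearMap.mem_range])
    l₁ (TensorProduct.isBaseChange σ.B _ B')
  let c' := hlB₂.lift (l₁.comp c)
  let e : C' ≃ₗ[B'] B' ⊗[σ.B] (σ.M ⧸ LinearMap.range σ.α) :=
    (Submodule.quotEquivOfEq _ _ (Submodule.ext fun x => by
      rw [LinearMap.mem_ker, LinearMap.mem_range]; exact (hke x).symm)) ≪≫ₗ c'.quotKerEquivOfSurjective hsu
  have hbc : IsBaseChange B' ((e.symm.toLinearMap.restrictScalars σ.B).comp l₁) :=
    IsBaseChange.of_equiv e.symm fun _ => rfl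
  refine ⟨B', C', inferInstance, inferInstance, inferInstance, inferInstance, inferInstance, inferInstance, hpB,
    inferInstance, inferInstance, inferInstance, inferInstance, inferInstance, inferInstance, _, hbc, ?_⟩
  -- injectivity is independent of the models
  have hinj : Function.Injective α' ↔ Function.Injective ((σ.α.restrictScalars A).lTensor A') := by
    let eB : A' ⊗[A] σ.B ≃ₗ[A'] B' := (Algebra.IsPushout.equiv A A' σ.B B').toLinearEquiv
    let Φ : A' ⊗[A] (Fin σ.r → σ.B) ≃ₗ[A'] (Fin σ.r → B') :=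
      TensorProduct.piRight A A' A' (fun _ : Fin σ.r => σ.B) ≪≫ₗ LinearEquiv.piCongrRight fun _ => eB
    let Ψ : A' ⊗[A] σ.M ≃ₗ[A'] M₂ :=
      (Algebra.IsPushout.cancelBaseChange A A' σ.B B' σ.M).symm ≪≫ₗ hlB₂.equiv.restrictScalars A'
    have hΦ : ∀ (a : A') (v : Fin σ.r → σ.B), Φ (a ⊗ₜ v) = algebraMap A' B' a • fun k => algebraMap σ.B B' (v k) :=
      fun a v => funext fun k => by
        show eB ((TensorProduct.piRight A A' A' (fun _ : Fin σ.r => σ.B) (a ⊗ₜ v)) k) = _
        rw [TensorProduct.piRight_apply, TensorProduct.piRightHom_tmul]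
        show Algebra.IsPushout.equiv A A' σ.B B' (a ⊗ₜ v k) = algebraMap A' B' a • algebraMap σ.B B' (v k)
        rw [Algebra.IsPushout.equiv_tmul, smul_eq_mul]
    have hcomm : ∀ w, α' (Φ w) = Ψ ((σ.α.restrictScalars A).lTensor A' w) := by
      intro w
      induction w using TensorProduct.induction_on with
      | zero => simp
      | add u v hu hv => simp only [map_add, hu, hv]
      | tmul a v =>
        rw [hΦ, map_smul, FlatDevPad.extendMap_algebraMap, LinearMap.lTensor_tmul]
        show algebraMap A' B' a • lB (σ.α v) =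
          hlB₂.equiv ((Algebra.IsPushout.cancelBaseChange A A' σ.B B' σ.M).symm (a ⊗ₜ (σ.α v)))
        rw [Algebra.IsPushout.cancelBaseChange_symm_tmul, IsBaseChange.equiv_tmul]
    rw [← Function.Injective.of_comp_iff' _ Φ.bijective,
      show ⇑α' ∘ ⇑Φ = ⇑Ψ ∘ ⇑((σ.α.restrictScalars A).lTensor A') from funext hcomm]
    exact Ψ.injective.of_comp_iff _
  -- the geometry of the smooth algebra
  haveI : Algebra.Smooth A' B' :=
    Algebra.Smooth.of_equiv (Algebra.IsPushout.equiv A A' σ.B B')
  have hirr : FlatCA.GeomIrredFibres A' B' := by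
    have hsq := AlgebraicGeometry.isPullback_SpecMap_of_isPushout _ _ _ _
      (CommRingCat.isPushout_of_isPushout A A' σ.B B')
    exact CategoryTheory.MorphismProperty.of_isPullback (P := @AlgebraicGeometry.GeometricallyIrreducible) hsq.flip σ.geomIrred
  haveI := σ.isPrime_map
  haveI hP' : (m'.map (algebraMap A' B')).IsPrime := FlatDevPad.isPrime_map A' B' hirr m'
  haveI : Module.Flat A σ.B := Algebra.Smooth.flat A σ.B
  haveI := FlatDevPad.map_liesOver A A' σ.B B' m m'
  have hfib : Function.Bijective (α'.baseChange (m'.map (algebraMap A' B')).ResidueField) :=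
    FlatDevPad.bijective_baseChange_residueField lB hlB₂ σ.r σ.α α' (FlatDevPad.extendMap_algebraMap _ _)
      (m.map (algebraMap A σ.B)) (m'.map (algebraMap A' B')) σ.fibreIso
  haveI : Module.Finite B' M₂ := Module.Finite.equiv hlB₂.equiv
  haveI : Module.Flat A' B' := Algebra.Smooth.flat A' B'
  have htfae := (Groth.Agent.S1204.result (SmoothFree.geomIntegral_of_smooth hirr) (R := A') (S := B'))
  have hpoint : ∀ (Q : Ideal B') [Q.IsPrime], Q.comap (algebraMap A' B') = m' →
      (FlatCA.FlatAt A' Q M₂ ↔ Function.Injective α' ∧ FlatCA.FlatAt A' Q C') := fun Q _ hQ => by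
    haveI : Q.LiesOver m' := ⟨hQ.symm⟩
    exact ((htfae Q M₂).2 σ.r α' hfib).out 0 2
  have hq0 : σ.z.comap (algebraMap S σ.A) = q := σ.q0
  haveI : q.IsPrime := hq0 ▸ Ideal.IsPrime.comap _
  haveI : Module.Finite S σ.A := Module.Finite.of_surjective (Algebra.linearMap S σ.A) σ.surj
  have hy : σ.y.comap (algebraMap A σ.B) = m := σ.yOver.over.symm
  rw [flatFibre_equiv eN q,
    flatFibre_iff_finite (C := σ.A) (C' := A₂) q σ.z hq0
      (fun Q _ hQ => Ideal.comap_injective_of_surjective _ σ.surj (hQ.trans hq0.symm)),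
    ← flatFibre_iff_finite (P := σ.B) (P' := B') (C := σ.A) (C' := A₂) σ.y σ.z σ.zOver.over.symm
      (fun Q _ hQ => σ.uniq Q ⟨hQ.symm⟩), ← hinj]
  constructor
  · intro h
    obtain ⟨Q, hQ, hQy, hQm⟩ := exists_prime (A' := A') (P' := B') σ.y hy
    haveI := hQ
    exact ⟨((hpoint Q hQm).1 (h Q hQy hQm)).1, fun Q' _ h1 h2 => ((hpoint Q' h2).1 (h Q' h1 h2)).2⟩
  · rintro ⟨h1, h2⟩ Q _ hQy hQm
    exact (hpoint Q hQm).2 ⟨h1, h2 Q hQy hQm⟩

set_option maxHeartbeats 1600000 in
theorem flattens_step {S : Type u} [CommRing S] [Algebra A S] {q : Ideal S} {N : Type u} [AddCommGroup N] [Module S N]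
    (σ : DevExist.Step A (maximalIdeal A) S q N) {I : Ideal A}
    (hI : Flattens A σ.y (σ.M ⧸ LinearMap.range σ.α) I) : ∃ J, Flattens A q N J := by
  haveI := σ.smooth
  letI : Module A σ.M := Module.compHom σ.M (algebraMap A σ.B)
  haveI : IsScalarTower A σ.B σ.M := IsScalarTower.of_algebraMap_smul fun _ _ => rfl
  have hy : σ.y.comap (algebraMap A σ.B) = maximalIdeal A := σ.yOver.over.symm
  obtain ⟨J, hIJ, hJ⟩ := exists_ideal_injective σ.geomIrred σ.y hy σ.α I
    (flat_localized_of_flattens σ.y hI hy)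
  refine ⟨J, fun A' S' N' _ _ _ _ _ _ _ _ _ _ _ _ _ _ _ _ _ f hf => ?_⟩
  obtain ⟨B', C', _, _, _, _, _, _, _, _, _, _, _, _, _, l, hl, hiff⟩ := flatFibre_step σ A' S' N' f hf
  rw [hiff, hI A' B' C' l hl]
  refine ⟨fun ⟨h1, h2⟩ => (hJ A' h2).1 h1, fun h => ?_⟩
  have h2 : I.map (algebraMap A A') = ⊥ := le_bot_iff.1 ((Ideal.map_mono hIJ).trans h.le)
  exact ⟨(hJ A' h2).2 h, h2⟩

/-- A complete dévissage at a point gives a flattening ideal. -/
theorem exists_flattens {S : Type u} [CommRing S] [Algebra A S] {q : Ideal S} {N : Type u} [AddCommGroup N] [Module S N]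
    (h : DevExist.DevAt A (maximalIdeal A) S q N) : ∃ I, Flattens A q N I := by
  induction h with
  | single σ hs =>
    refine flattens_step σ (I := ⊥) fun A' S' N' _ _ _ _ _ _ _ _ _ _ _ _ _ _ _ _ _ f hf => ?_
    haveI : Subsingleton (σ.M ⧸ LinearMap.range σ.α) :=
      Submodule.Quotient.subsingleton_iff.mpr (LinearMap.range_eq_top.2 hs)
    haveI : Subsingleton N' := DevExist.subsingleton_of_isBaseChange_of_smul_eq_zero hf 1
      (by rw [map_one]; exact isUnit_one) fun _ => Subsingleton.elim _ _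
    simp only [Ideal.map_bot, iff_true]
    intro Q _ _ _
    haveI : Subsingleton (LocalizedModule Q.primeCompl N') :=
      LocalizedModule.subsingleton_iff.2 fun n => ⟨1, Q.primeCompl.one_mem, Subsingleton.elim _ _⟩
    exact (inferInstance : Module.Flat A' (LocalizedModule Q.primeCompl N'))
  | cons σ _ ih =>
    obtain ⟨I, hI⟩ := ih
    exact flattens_step σ hI

end Groth.Agent.FlatHens
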