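import Groth.Agent.FlatHens.Transfer
import Groth.Agent.FlatML.MLHens
import Groth.Agent.DevExist.Main
import Groth.Agent.RGLib.Main

/-! The flattening ideal of a finite module over an essentially finite type local algebra over a henselian ring. -/

set_option autoImplicit false
set_option backward.isDefEq.respectTransparency false
set_option backward.isDefEq.respectTransparency.types false
attribute [-instance] CategoryTheory.catToReflQuiver
set_option linter.style.haveILetI false

universe u

noncomputable section

open TensorProduct IsLocalRing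

namespace Groth.Agent.FlatHens

set_option maxHeartbeats 1600000 in
/-- The flattening ideal at a point of the closed fibre of a finite type algebra over a henselian ring. -/
theorem exists_flattens_finiteType {A P : Type u} [CommRing A] [HenselianLocalRing A] [CommRing P] [Algebra A P]
    [Algebra.FiniteType A P] (N : Type u) [AddCommGroup N] [Module P N] [Module A N] [IsScalarTower A P N]
    [Module.Finite P N] (q : Ideal P) [q.IsPrime] [q.LiesOver (maximalIdeal A)]
    (hann : Module.annihilator P N ≤ q) : ∃ I : Ideal A, Flattens A q N I := by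
  let m := maximalIdeal A
  let x := PrimeSpectrum.primesOverOrderIsoFiber A P m ⟨q, inferInstance, inferInstance⟩
  have hsupp : ∃ x ∈ Module.support (m.Fiber P) (FlatCA.fiberMod m P N), x.asIdeal = FlatCA.fiberIdeal m q :=
    ⟨x, (FlatDevBC.mem_support_fiber_iff m x).2 (by rw [OrderIso.symm_apply_apply]; exact hann),
      FlatDevLoc.primesOver_fiberIdeal m q inferInstance⟩
  obtain ⟨R', S', _, _, _, _, _, _, _, _, p', q', _, _, hR, hS, hover, hdev⟩ :=
    DevExist.exists_hasDevNhd N m q hsupp
  obtain ⟨heR, hp', hκ'⟩ := hR
  obtain ⟨heS, hq', -⟩ := hS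
  haveI := heR; haveI := heS; haveI := hp'; haveI := hq'; haveI := hover
  -- the section
  let mp := Ideal.ResidueField.mapₐ m p' (Algebra.ofId A R') hp'.over
  let eq1 := RingEquiv.ofBijective (algebraMap (A ⧸ m) m.ResidueField)
    (Ideal.bijective_algebraMap_quotient_residueField m)
  let eq2 := RingEquiv.ofBijective mp.toRingHom hκ'
  let τ : p'.ResidueField →+* ResidueField A := eq1.symm.toRingHom.comp eq2.symm.toRingHom
  have hτ : τ.comp (algebraMap A p'.ResidueField) = (residue A).comp (algebraMap A A) := RingHom.ext fun a => by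
    show eq1.symm (eq2.symm (algebraMap A p'.ResidueField a)) = residue A a
    rw [eq1.symm_apply_eq, eq2.symm_apply_eq]
    exact (mp.commutes a).symm
  obtain ⟨φ, ⟨hφ, -⟩, -⟩ := Hensel.existsUnique_algHom_of_residueField A A R' p' τ hτ
  letI : Algebra R' A := φ.toRingHom.toAlgebra
  haveI : IsScalarTower A R' A := IsScalarTower.of_algebraMap_eq fun a => (φ.commutes a).symm
  haveI : Algebra.Etale R' A := Algebra.Etale.of_restrictScalars A R' A
  haveI hmp : m.LiesOver p' := ⟨hφ.symm⟩
  have hκ : Function.Bijective (Ideal.ResidueField.mapₐ p' m (Algebra.ofId R' A) hmp.over) := by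
    refine ⟨RingHom.injective _, fun z => ?_⟩
    obtain ⟨c, hc⟩ := (Ideal.bijective_algebraMap_quotient_residueField m).2 z
    obtain ⟨a, rfl⟩ := Ideal.Quotient.mk_surjective c
    refine ⟨algebraMap R' p'.ResidueField (algebraMap A R' a), ?_⟩
    rw [AlgHom.commutes, IsScalarTower.algebraMap_apply R' A m.ResidueField, ← IsScalarTower.algebraMap_apply A R' A]
    exact hc
  -- the base change of the neighbourhood along the section
  obtain ⟨C, _, _, _, hp⟩ : ∃ (C : Type u) (_ : CommRing C) (_ : Algebra A C) (_ : Algebra S' C),
      (letI : Algebra R' C := ((algebraMap A C).comp (algebraMap R' A)).toAlgebra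
       ∃ (_ : IsScalarTower R' A C) (_ : IsScalarTower R' S' C), Algebra.IsPushout R' A S' C) := by
    letI : Algebra S' (A ⊗[R'] S') := Algebra.TensorProduct.rightAlgebra
    haveI : IsScalarTower R' S' (A ⊗[R'] S') := Algebra.TensorProduct.right_isScalarTower
    have hp : Algebra.IsPushout R' A S' (A ⊗[R'] S') := TensorProduct.isPushout (R := R') (S := A) (T := S')
    refine ⟨A ⊗[R'] S', inferInstance, inferInstance, inferInstance, ?_⟩
    have e : ((algebraMap A (A ⊗[R'] S')).comp (algebraMap R' A)).toAlgebra =
        (inferInstance : Algebra R' (A ⊗[R'] S')) :=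
      Algebra.algebra_ext _ _ fun r => (IsScalarTower.algebraMap_apply R' A (A ⊗[R'] S') r).symm
    rw [e]
    exact ⟨inferInstance, inferInstance, hp⟩
  letI : Algebra R' C := ((algebraMap A C).comp (algebraMap R' A)).toAlgebra
  obtain ⟨_, _, hp⟩ := hp
  haveI := hp
  letI : Algebra P C := ((algebraMap S' C).comp (algebraMap P S')).toAlgebra
  haveI : IsScalarTower P S' C := IsScalarTower.of_algebraMap_eq' rfl
  haveI : IsScalarTower A R' C := IsScalarTower.of_algebraMap_eq fun a => by
    rw [IsScalarTower.algebraMap_apply R' A C, ← IsScalarTower.algebraMap_apply A R' A]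
    rfl
  haveI : IsScalarTower A S' C := IsScalarTower.of_algebraMap_eq fun a => by
    rw [IsScalarTower.algebraMap_apply A R' S', ← IsScalarTower.algebraMap_apply R' S' C,
      ← IsScalarTower.algebraMap_apply A R' C]
  haveI : IsScalarTower A P C := IsScalarTower.of_algebraMap_eq fun a => by
    rw [IsScalarTower.algebraMap_apply P S' C, ← IsScalarTower.algebraMap_apply A P S',
      ← IsScalarTower.algebraMap_apply A S' C]
  obtain ⟨qC, hqC, hqCm, hqCq⟩ := exists_prime_pair (U := C) m q' (hφ.trans hover.over)
  haveI := hqC
  haveI : qC.LiesOver q' := ⟨hqCq.symm⟩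
  haveI : qC.LiesOver m := ⟨hqCm.symm⟩
  let g : N →ₗ[P] S' ⊗[P] N := TensorProduct.mk P S' N 1
  have hg : IsBaseChange S' g := TensorProduct.isBaseChange P N S'
  let a : S' ⊗[P] N →ₗ[S'] C ⊗[S'] (S' ⊗[P] N) := TensorProduct.mk S' C _ 1
  have ha : IsBaseChange C a := TensorProduct.isBaseChange S' _ C
  have hdevC := (hdev (S' ⊗[P] N) g hg).baseChange_at A m hκ C _ a ha qC
  obtain ⟨I, hI⟩ := exists_flattens hdevC
  haveI : Module.Flat S' C := Module.Flat.isBaseChange R' S' A C (Algebra.IsPushout.symm hp).out
  haveI : Module.Flat P C := Module.Flat.trans P S' C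
  refine ⟨I, hI.of_flat ((a.restrictScalars P).comp g) (hg.comp ha) q qC ?_⟩
  rw [IsScalarTower.algebraMap_eq P S' C, ← Ideal.comap_comap, hqCq]
  exact hq'.over.symm

set_option maxHeartbeats 1600000 in
/-- The flattening ideal of a finite module over an essentially finite type local algebra. -/
theorem exists_flattens_local {A B : Type u} [CommRing A] [HenselianLocalRing A] [CommRing B] [IsLocalRing B]
    [Algebra A B] [IsLocalHom (algebraMap A B)] [Algebra.EssFiniteType A B]
    (M : Type u) [AddCommGroup M] [Module B M] [Module A M] [IsScalarTower A B M] [Module.Finite B M] :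
    ∃ I : Ideal A, Flattens A (maximalIdeal B) M I := by
  classical
  obtain ⟨n, q, _, φ, hq, hφ⟩ := RGLib.exists_localization_surjection A B
  let P := MvPolynomial (Fin n) A
  let S := Localization.AtPrime q
  letI : Module S M := Module.compHom M φ.toRingHom
  haveI : IsScalarTower A S M := IsScalarTower.of_algebraMap_smul fun r x => by
    show φ (algebraMap A S r) • x = r • x
    rw [φ.commutes, algebraMap_smul]
  letI : Module P M := Module.compHom M (algebraMap P S)
  haveI : IsScalarTower P S M := IsScalarTower.of_algebraMap_smul fun _ _ => rfl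
  haveI : IsScalarTower A P M := IsScalarTower.of_algebraMap_smul fun r x => by
    show algebraMap P S (algebraMap A P r) • x = r • x
    rw [← IsScalarTower.algebraMap_apply, algebraMap_smul]
  letI : Algebra S B := φ.toRingHom.toAlgebra
  haveI : IsScalarTower A S B := IsScalarTower.of_algebraMap_eq fun a => (φ.commutes a).symm
  haveI : IsScalarTower S B M := IsScalarTower.of_algebraMap_smul fun _ _ => rfl
  haveI : Module.Finite S B := Module.Finite.of_surjective (Algebra.linearMap S B) hφ
  haveI : Module.Finite S M := Module.Finite.trans B M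
  obtain ⟨s, hs⟩ := Module.Finite.fg_top (R := S) (M := M)
  let N₀ : Submodule P M := Submodule.span P (s : Set M)
  haveI : Module.Finite P N₀ := Module.Finite.span_of_finite P s.finite_toSet
  haveI hloc : IsLocalizedModule q.primeCompl N₀.subtype := by
    refine ⟨fun d => ?_, fun y => ?_, fun {a b} h => ⟨1, by rw [Subtype.ext h]⟩⟩
    · rw [Module.End.isUnit_iff]
      obtain ⟨w, hw⟩ := IsLocalization.map_units S d
      have h : ⇑((algebraMap P (Module.End P M)) d) = fun z => (w : S) • z := funext fun z => by
        rw [Module.algebraMap_end_apply, hw, algebraMap_smul]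
      rw [h]
      exact MulAction.bijective w
    · have hy : y ∈ Submodule.span S (s : Set M) := hs ▸ trivial
      induction hy using Submodule.span_induction with
      | mem z hz => exact ⟨(⟨z, Submodule.subset_span hz⟩, 1), by rw [one_smul]; rfl⟩
      | zero => exact ⟨(0, 1), by rw [map_zero, smul_zero]⟩
      | add a b _ _ ha hb =>
        obtain ⟨⟨a', c⟩, ha⟩ := ha
        obtain ⟨⟨b', d⟩, hb⟩ := hb
        refine ⟨(d • a' + c • b', c * d), ?_⟩
        rw [map_add, LinearMap.map_smul_of_tower, LinearMap.map_smul_of_tower, ← ha, ← hb, smul_add, smul_smul,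
          smul_smul, mul_comm d c]
      | smul r z _ hz =>
        obtain ⟨⟨z', c⟩, hz⟩ := hz
        obtain ⟨⟨v, w⟩, hvw⟩ := IsLocalization.surj q.primeCompl r
        refine ⟨(v • z', w * c), ?_⟩
        rw [map_smul, ← hz]
        simp only [Submonoid.smul_def, Submonoid.coe_mul]
        rw [← algebraMap_smul S v, ← algebraMap_smul S ((w : P) * (c : P)), ← algebraMap_smul S (c : P), smul_smul,
          smul_smul, map_mul, ← hvw]
        congr 1
        ring
  haveI : q.LiesOver (maximalIdeal A) := ⟨hq.symm⟩
  by_cases hann : Module.annihilator P N₀ ≤ q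
  · obtain ⟨I, hI⟩ := exists_flattens_finiteType (A := A) N₀ q hann
    have hS : Flattens A (maximalIdeal S) M I :=
      hI.to_flat N₀.subtype ((isLocalizedModule_iff_isBaseChange q.primeCompl S _).1 hloc) q (maximalIdeal S)
        (Localization.AtPrime.under_maximalIdeal)
    have hsurj : Function.Surjective (algebraMap S B) := hφ
    haveI : IsLocalHom (algebraMap S B) := IsLocalHom.of_surjective _ hsurj
    exact ⟨I, hS.to_finite (maximalIdeal S) (maximalIdeal B) (IsLocalRing.maximalIdeal_comap (algebraMap S B))
      fun Q _ hQ => Ideal.comap_injective_of_surjective _ hsurj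
        (hQ.trans (IsLocalRing.maximalIdeal_comap (algebraMap S B)).symm)⟩
  · obtain ⟨d, hd, hdq⟩ := SetLike.not_le_iff_exists.1 hann
    haveI : Subsingleton M := by
      refine subsingleton_of_forall_eq 0 fun y => ?_
      obtain ⟨⟨y₀, t⟩, hy⟩ := IsLocalizedModule.surj q.primeCompl N₀.subtype y
      have h1 : ((d : P) * (t : P)) • y = 0 := by
        rw [mul_smul, show (t : P) • y = N₀.subtype y₀ from hy, ← map_smul, Module.mem_annihilator.1 hd, map_zero]
      rw [← algebraMap_smul S] at h1
      exact (IsUnit.smul_eq_zero (IsLocalization.map_units S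
        (⟨d * t, q.primeCompl.mul_mem hdq t.2⟩ : q.primeCompl))).1 h1
    refine ⟨⊥, fun A' S' N' _ _ _ _ _ _ _ _ _ _ _ _ _ _ _ _ _ f hf => ?_⟩
    haveI : Subsingleton N' := DevExist.subsingleton_of_isBaseChange_of_smul_eq_zero hf 1
      (by rw [map_one]; exact isUnit_one) fun _ => Subsingleton.elim _ _
    simp only [Ideal.map_bot, iff_true]
    intro Q _ _ _
    haveI : Subsingleton (LocalizedModule Q.primeCompl N') :=
      LocalizedModule.subsingleton_iff.2 fun n => ⟨1, Q.primeCompl.one_mem, Subsingleton.elim _ _⟩
    exact (inferInstance : Module.Flat A' (LocalizedModule Q.primeCompl N'))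

end Groth.Agent.FlatHens
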