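import Groth.Agent.FlatHens.Main
import Groth.Agent.FlatHens.FG

/-! A flattening ideal tested at the prime of a ring over the base. -/

set_option autoImplicit false
set_option backward.isDefEq.respectTransparency false
set_option backward.isDefEq.respectTransparency.types false
attribute [-instance] CategoryTheory.catToReflQuiver
set_option linter.style.haveILetI false

universe u

noncomputable section

open TensorProduct IsLocalRing

namespace Groth.Agent.FlatHens

/-- The flattening ideal at any prime of the closed fibre. -/
theorem exists_flattens_at {A S : Type u} [CommRing A] [HenselianLocalRing A] [CommRing S] [Algebra A S]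
    [Algebra.FiniteType A S] (N : Type u) [AddCommGroup N] [Module S N] [Module.Finite S N]
    (q : Ideal S) [q.IsPrime] (hq : q.comap (algebraMap A S) = maximalIdeal A) :
    ∃ I : Ideal A, Flattens A q N I := by
  letI : Module A N := Module.compHom N (algebraMap A S)
  haveI : IsScalarTower A S N := IsScalarTower.of_algebraMap_smul fun _ _ => rfl
  haveI : q.LiesOver (maximalIdeal A) := ⟨hq.symm⟩
  by_cases hann : Module.annihilator S N ≤ q
  · exact exists_flattens_finiteType N q hann
  · obtain ⟨d, hd, hdq⟩ := SetLike.not_le_iff_exists.1 hann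
    refine ⟨⊥, fun A' S' N' _ _ _ _ _ _ _ _ _ _ _ _ _ _ _ _ _ f hf => ?_⟩
    simp only [Ideal.map_bot, iff_true]
    intro Q _ hQq _
    have hd' : algebraMap S S' d ∉ Q := fun h => hdq (hQq ▸ h)
    haveI : Subsingleton (LocalizedModule Q.primeCompl N') :=
      LocalizedModule.subsingleton_iff.2 fun n => ⟨algebraMap S S' d, hd', by
        induction n using hf.inductionOn with
        | zero => rw [smul_zero]
        | tmul m => rw [algebraMap_smul, ← map_smul, Module.mem_annihilator.1 hd, map_zero]
        | smul c m h => rw [smul_comm, h, smul_zero]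
        | add a b ha hb => rw [smul_add, ha, hb, add_zero]⟩
    exact (inferInstance : Module.Flat A' (LocalizedModule Q.primeCompl N'))

set_option maxHeartbeats 1600000 in
/-- A flattening ideal read at a prime `p` of an algebra over the base. -/
theorem flattens_prime {A S R P : Type u} [CommRing A] [IsLocalRing A] [CommRing S] [CommRing R] [CommRing P]
    [Algebra A S] [Algebra A R] [Algebra R P] [Algebra S P] [Algebra A P] [IsScalarTower A R P] [IsScalarTower A S P]
    [Algebra.IsPushout A R S P] {N G : Type u} [AddCommGroup N] [Module S N] [AddCommGroup G] [Module P G]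
    [Module S G] [IsScalarTower S P G] [Module R G] [IsScalarTower R P G] (f : N →ₗ[S] G) (hf : IsBaseChange P f)
    (q : Ideal S) {I : Ideal A} (h : Flattens A q N I) (p : Ideal R) [p.IsPrime]
    (hp : p.comap (algebraMap A R) = maximalIdeal A) :
    (∀ (Q : Ideal P) [Q.IsPrime], Q.comap (algebraMap S P) = q → Q.comap (algebraMap R P) = p →
      FlatCA.FlatAt R Q G) ↔ I.map (algebraMap A (Localization.AtPrime p)) = ⊥ := by
  let A' := Localization.AtPrime p
  haveI : IsLocalHom (algebraMap A A') := ⟨fun a ha => by
    by_contra hc
    have h1 : algebraMap A R a ∈ p := by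
      show a ∈ p.comap (algebraMap A R)
      rw [hp]
      exact (IsLocalRing.mem_maximalIdeal a).2 hc
    have h2 : algebraMap R A' (algebraMap A R a) ∈ maximalIdeal A' :=
      (IsLocalization.AtPrime.to_map_mem_maximal_iff A' p _).2 h1
    rw [← IsScalarTower.algebraMap_apply] at h2
    exact (IsLocalRing.mem_maximalIdeal _).1 h2 ha⟩
  obtain ⟨P', G', _, _, _, _, _, _, _, _, _, _, _, _, l, hp1, hp2, hl⟩ := FlatPure.exists_base_model R A' P G
  haveI := hp1
  haveI := hp2
  haveI hloc : IsLocalization (Algebra.algebraMapSubmonoid P p.primeCompl) P' :=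
    (Algebra.isLocalization_iff_isPushout p.primeCompl A' (T := P) (B := P')).2 hp2
  letI : Algebra A P' := ((algebraMap P P').comp (algebraMap A P)).toAlgebra
  haveI : IsScalarTower A P P' := IsScalarTower.of_algebraMap_eq' rfl
  letI : Algebra S P' := ((algebraMap P P').comp (algebraMap S P)).toAlgebra
  haveI : IsScalarTower S P P' := IsScalarTower.of_algebraMap_eq' rfl
  haveI : IsScalarTower A S P' := IsScalarTower.of_algebraMap_eq fun a => by
    rw [IsScalarTower.algebraMap_apply S P P', ← IsScalarTower.algebraMap_apply A S P,
      ← IsScalarTower.algebraMap_apply A P P']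
  haveI : IsScalarTower A A' P' := IsScalarTower.of_algebraMap_eq fun a => by
    rw [IsScalarTower.algebraMap_apply A R A', ← IsScalarTower.algebraMap_apply R A' P',
      IsScalarTower.algebraMap_apply R P P', ← IsScalarTower.algebraMap_apply A R P,
      ← IsScalarTower.algebraMap_apply A P P']
  haveI : Algebra.IsPushout A A' S P' := DevExist.isPushout_trans A R A' S P P'
  letI : Module S G' := Module.compHom G' (algebraMap S P')
  haveI : IsScalarTower S P' G' := IsScalarTower.of_algebraMap_smul fun _ _ => rfl
  haveI : IsScalarTower S P G' := IsScalarTower.to₁₂₄ S P P' G'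
  rw [← h A' P' G' ((l.restrictScalars S).comp f) (hf.comp hl)]
  letI : Module R G' := Module.compHom G' (algebraMap R P')
  haveI : IsScalarTower R P' G' := IsScalarTower.of_algebraMap_smul fun _ _ => rfl
  haveI : IsScalarTower R A' G' := IsScalarTower.to₁₂₄ R A' P' G'
  haveI : Module.Flat P P' := IsLocalization.flat P' (Algebra.algebraMapSubmonoid P p.primeCompl)
  have key : ∀ (Q : Ideal P) [Q.IsPrime] (Q' : Ideal P') [Q'.IsPrime] [Q'.LiesOver Q],
      FlatCA.FlatAt R Q G ↔ FlatCA.FlatAt A' Q' G' := fun Q _ Q' _ _ =>
    (DevEtale.flatAt_iff_of_flat R l hl Q Q').trans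
      (Module.flat_iff_of_isLocalization A' p.primeCompl (LocalizedModule Q'.primeCompl G')).symm
  constructor
  · intro H Q' _ hQq hQm
    haveI : (Q'.comap (algebraMap P P')).IsPrime := Ideal.IsPrime.comap _
    haveI : Q'.LiesOver (Q'.comap (algebraMap P P')) := ⟨rfl⟩
    refine (key (Q'.comap (algebraMap P P')) Q').1 (H _ ?_ ?_)
    · rw [Ideal.comap_comap, ← IsScalarTower.algebraMap_eq, hQq]
    · rw [Ideal.comap_comap, ← IsScalarTower.algebraMap_eq, IsScalarTower.algebraMap_eq R A' P',
        ← Ideal.comap_comap, hQm]
      exact IsLocalization.AtPrime.under_maximalIdeal (I := p) (S := A')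
  · intro H Q _ hQq hQp
    have hdisj : Disjoint ((Algebra.algebraMapSubmonoid P p.primeCompl : Submonoid P) : Set P) (Q : Set P) :=
      Set.disjoint_left.2 fun _ ⟨d, hd, hde⟩ hdQ => hd (by
        rw [← hde] at hdQ
        exact hQp ▸ hdQ)
    let Q' := Q.map (algebraMap P P')
    haveI : Q'.IsPrime := IsLocalization.isPrime_of_isPrime_disjoint _ P' Q ‹Q.IsPrime› hdisj
    have hQ' : Q'.comap (algebraMap P P') = Q :=
      IsLocalization.comap_map_of_isPrime_disjoint _ P' ‹Q.IsPrime› hdisj
    haveI : Q'.LiesOver Q := ⟨hQ'.symm⟩
    refine (key Q Q').2 (H Q' ?_ ?_)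
    · rw [IsScalarTower.algebraMap_eq S P P', ← Ideal.comap_comap, hQ', hQq]
    · have h1 : (Q'.comap (algebraMap A' P')).comap (algebraMap R A') = p := by
        rw [Ideal.comap_comap, ← IsScalarTower.algebraMap_eq, IsScalarTower.algebraMap_eq R P P',
          ← Ideal.comap_comap, hQ', hQp]
      refine ((IsLocalRing.maximalIdeal.isMaximal A').eq_of_le ?_ ?_).symm
      · exact (Ideal.IsPrime.comap _).ne_top
      · rw [← IsLocalization.map_comap p.primeCompl A' (maximalIdeal A'), ← IsLocalization.map_comap p.primeCompl A'
          (Q'.comap (algebraMap A' P'))]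
        exact le_of_eq (congrArg _ ((IsLocalization.AtPrime.under_maximalIdeal (I := p) (S := A')).trans h1.symm))

set_option maxHeartbeats 1600000 in
/-- The flattening ideal at a prime of a finitely presented algebra is finitely generated. -/
theorem fg_of_flattens {A S : Type u} [CommRing A] [IsLocalRing A] [CommRing S] [Algebra A S]
    [Algebra.FinitePresentation A S] (N : Type u) [AddCommGroup N] [Module S N] [Module.FinitePresentation S N]
    (q : Ideal S) [q.IsPrime] (hq : q.comap (algebraMap A S) = maximalIdeal A) {I : Ideal A}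
    (h : Flattens A q N I) : I.FG := by
  let B := Localization.AtPrime q
  let M := LocalizedModule q.primeCompl N
  haveI : IsLocalHom (algebraMap A B) := ⟨fun a ha => by
    by_contra hc
    have h1 : algebraMap A S a ∈ q := by
      show a ∈ q.comap (algebraMap A S)
      rw [hq]
      exact (IsLocalRing.mem_maximalIdeal a).2 hc
    have h2 : algebraMap S B (algebraMap A S a) ∈ maximalIdeal B :=
      (IsLocalization.AtPrime.to_map_mem_maximal_iff B q _).2 h1
    rw [← IsScalarTower.algebraMap_apply] at h2
    exact (IsLocalRing.mem_maximalIdeal _).1 h2 ha⟩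
  letI : Module A M := Module.compHom M (algebraMap A B)
  haveI : IsScalarTower A B M := IsScalarTower.of_algebraMap_smul fun _ _ => rfl
  exact Flattens.fg ⟨S, inferInstance, inferInstance, inferInstance, inferInstance, q.primeCompl, inferInstance,
    inferInstance⟩ (h.to_flat (LocalizedModule.mkLinearMap q.primeCompl N)
      ((isLocalizedModule_iff_isBaseChange q.primeCompl B _).1 inferInstance) q (maximalIdeal B)
      (IsLocalization.AtPrime.under_maximalIdeal (I := q) (S := B)))

end Groth.Agent.FlatHens
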