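import Groth.Agent.FlatHens.Induction

/-! Moving flattening ideals along flat and along finite algebras. -/

set_option autoImplicit false
set_option backward.isDefEq.respectTransparency false
set_option backward.isDefEq.respectTransparency.types false
attribute [-instance] CategoryTheory.catToReflQuiver
set_option linter.style.haveILetI false

universe u

noncomputable section

open TensorProduct IsLocalRing

namespace Groth.Agent.FlatHens

/-- Two extensions of a field have a common extension. -/
theorem exists_common_extension {k K L : Type u} [Field k] [Field K] [Field L] (i : k →+* K) (j : k →+* L) :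
    ∃ (Ω : Type u) (_ : CommRing Ω) (_ : IsDomain Ω) (iL : K →+* Ω) (iR : L →+* Ω),
      Function.Injective iL ∧ Function.Injective iR ∧ iL.comp i = iR.comp j := by
  letI : Algebra k K := i.toAlgebra
  letI : Algebra k L := j.toAlgebra
  obtain ⟨M, hM⟩ := Ideal.exists_maximal (K ⊗[k] L)
  haveI := hM
  let π := Ideal.Quotient.mk M
  refine ⟨(K ⊗[k] L) ⧸ M, inferInstance, inferInstance, π.comp Algebra.TensorProduct.includeLeftRingHom,
    π.comp (Algebra.TensorProduct.includeRight : L →ₐ[k] K ⊗[k] L).toRingHom, RingHom.injective _,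
    RingHom.injective _, RingHom.ext fun a => ?_⟩
  exact congrArg π (Algebra.TensorProduct.includeRight.commutes a).symm

/-- Primes over a compatible pair in a pushout. -/
theorem exists_prime_pair {R S T U : Type u} [CommRing R] [CommRing S] [CommRing T] [CommRing U] [Algebra R S]
    [Algebra R T] [Algebra R U] [Algebra S U] [Algebra T U] [IsScalarTower R S U] [IsScalarTower R T U]
    [Algebra.IsPushout R S T U] (s : Ideal S) [s.IsPrime] (t : Ideal T) [t.IsPrime]
    (h : s.comap (algebraMap R S) = t.comap (algebraMap R T)) :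
    ∃ Q : Ideal U, Q.IsPrime ∧ Q.comap (algebraMap S U) = s ∧ Q.comap (algebraMap T U) = t := by
  let r := s.comap (algebraMap R S)
  haveI : r.IsPrime := Ideal.IsPrime.comap _
  obtain ⟨Ω, _, _, iL, iR, hiL, hiR, hcomm⟩ := exists_common_extension
    (Ideal.ResidueField.map r s (algebraMap R S) rfl) (Ideal.ResidueField.map r t (algebraMap R T) h)
  letI : Algebra R Ω := ((iL.comp (algebraMap S s.ResidueField)).comp (algebraMap R S)).toAlgebra
  let gL : S →ₐ[R] Ω := { iL.comp (algebraMap S s.ResidueField) with commutes' := fun a => rfl }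
  let gR : T →ₐ[R] Ω :=
    { iR.comp (algebraMap T t.ResidueField) with
      commutes' := fun a => by
        show iR (algebraMap T t.ResidueField (algebraMap R T a)) = iL (algebraMap S s.ResidueField (algebraMap R S a))
        rw [← Ideal.ResidueField.map_algebraMap r t (algebraMap R T) h a,
          ← Ideal.ResidueField.map_algebraMap r s (algebraMap R S) rfl a]
        exact (RingHom.congr_fun hcomm (algebraMap R r.ResidueField a)).symm }
  let ρ : U →ₐ[R] Ω := Algebra.pushoutDesc U gL gR fun _ _ => mul_comm _ _
  refine ⟨RingHom.ker ρ.toRingHom, RingHom.ker_isPrime _, ?_, ?_⟩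
  · ext a
    rw [Ideal.mem_comap, RingHom.mem_ker]
    have h1 : ρ.toRingHom (algebraMap S U a) = iL (algebraMap S s.ResidueField a) :=
      Algebra.pushoutDesc_left U gL gR _ a
    rw [h1, hiL.eq_iff' (map_zero _), Ideal.algebraMap_residueField_eq_zero]
  · ext a
    rw [Ideal.mem_comap, RingHom.mem_ker]
    have h1 : ρ.toRingHom (algebraMap T U a) = iR (algebraMap T t.ResidueField a) :=
      Algebra.pushoutDesc_right U gL gR _ a
    rw [h1, hiR.eq_iff' (map_zero _), Ideal.algebraMap_residueField_eq_zero]

/-- The predicate along a flat algebra. -/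
theorem flatFibre_iff_flat {A' P C P' C' G' GC' : Type u} [CommRing A'] [IsLocalRing A'] [CommRing P] [CommRing C]
    [CommRing P'] [CommRing C'] [Algebra P C] [Algebra P P'] [Algebra C C'] [Algebra P' C'] [Algebra P C']
    [Algebra A' P'] [Algebra A' C'] [IsScalarTower P C C'] [IsScalarTower P P' C'] [IsScalarTower A' P' C']
    [Algebra.IsPushout P P' C C'] [Module.Flat P C]
    [AddCommGroup G'] [Module P' G'] [Module A' G'] [IsScalarTower A' P' G']
    [AddCommGroup GC'] [Module C' GC'] [Module P' GC'] [IsScalarTower P' C' GC'] [Module A' GC']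
    [IsScalarTower A' C' GC'] [IsScalarTower A' P' GC'] (g : G' →ₗ[P'] GC') (hg : IsBaseChange C' g)
    (y : Ideal P) (z : Ideal C) [z.IsPrime] (hzy : z.comap (algebraMap P C) = y) :
    FlatFibre A' y P' G' ↔ FlatFibre A' z C' GC' := by
  haveI : Module.Flat P' C' := Module.Flat.isBaseChange P P' C C' Algebra.IsPushout.out
  constructor
  · intro h Z _ hZz hZm
    haveI : (Z.comap (algebraMap P' C')).IsPrime := Ideal.IsPrime.comap _
    haveI : Z.LiesOver (Z.comap (algebraMap P' C')) := ⟨rfl⟩
    refine (DevEtale.flatAt_iff_of_flat A' g hg (Z.comap (algebraMap P' C')) Z).1 (h _ ?_ ?_)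
    · rw [Ideal.comap_comap, ← IsScalarTower.algebraMap_eq, IsScalarTower.algebraMap_eq P C C', ← Ideal.comap_comap,
        hZz, hzy]
    · rw [Ideal.comap_comap, ← IsScalarTower.algebraMap_eq, hZm]
  · intro h Q _ hQy hQm
    obtain ⟨Z, hZ, hZQ, hZz⟩ := exists_prime_pair (U := C') Q z (hQy.trans hzy.symm)
    haveI := hZ
    haveI : Z.LiesOver Q := ⟨hZQ.symm⟩
    refine (DevEtale.flatAt_iff_of_flat A' g hg Q Z).2 (h Z hZz ?_)
    rw [IsScalarTower.algebraMap_eq A' P' C', ← Ideal.comap_comap, hZQ, hQm]

variable {A : Type u} [CommRing A] [IsLocalRing A]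

set_option maxHeartbeats 1600000 in
/-- A flattening ideal after a flat algebra is a flattening ideal before. -/
theorem Flattens.of_flat {P C : Type u} [CommRing P] [CommRing C] [Algebra A P] [Algebra A C] [Algebra P C]
    [IsScalarTower A P C] [Module.Flat P C] {N NC : Type u} [AddCommGroup N] [Module P N] [AddCommGroup NC]
    [Module C NC] [Module P NC] [IsScalarTower P C NC] (g : N →ₗ[P] NC) (hg : IsBaseChange C g)
    (y : Ideal P) (z : Ideal C) [z.IsPrime] (hzy : z.comap (algebraMap P C) = y) {I : Ideal A}
    (h : Flattens A z NC I) : Flattens A y N I := by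
  intro A' P' N' _ _ _ _ _ _ _ _ _ _ _ _ _ _ _ _ _ f hf
  obtain ⟨C', _, _, _, hp1, hp2⟩ : ∃ (C' : Type u) (_ : CommRing C') (_ : Algebra P' C') (_ : Algebra C C'),
      (letI : Algebra P C' := ((algebraMap P' C').comp (algebraMap P P')).toAlgebra
       ∃ (_ : IsScalarTower P C C') (_ : IsScalarTower P P' C'), Algebra.IsPushout P P' C C') ∧ True := by
    letI : Algebra C (P' ⊗[P] C) := Algebra.TensorProduct.rightAlgebra
    haveI : IsScalarTower P C (P' ⊗[P] C) := Algebra.TensorProduct.right_isScalarTower
    have hp : Algebra.IsPushout P P' C (P' ⊗[P] C) := TensorProduct.isPushout (R := P) (S := P') (T := C)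
    refine ⟨P' ⊗[P] C, inferInstance, inferInstance, inferInstance, ?_, trivial⟩
    have e : ((algebraMap P' (P' ⊗[P] C)).comp (algebraMap P P')).toAlgebra =
        (inferInstance : Algebra P (P' ⊗[P] C)) :=
      Algebra.algebra_ext _ _ fun r => (IsScalarTower.algebraMap_apply P P' (P' ⊗[P] C) r).symm
    rw [e]
    exact ⟨inferInstance, inferInstance, hp⟩
  letI : Algebra P C' := ((algebraMap P' C').comp (algebraMap P P')).toAlgebra
  obtain ⟨_, _, hp⟩ := hp1
  haveI := hp
  letI : Algebra A' C' := ((algebraMap P' C').comp (algebraMap A' P')).toAlgebra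
  haveI : IsScalarTower A' P' C' := IsScalarTower.of_algebraMap_eq' rfl
  letI : Algebra A C' := ((algebraMap P' C').comp (algebraMap A P')).toAlgebra
  haveI : IsScalarTower A P' C' := IsScalarTower.of_algebraMap_eq' rfl
  haveI : IsScalarTower A A' C' := IsScalarTower.of_algebraMap_eq fun a => by
    show algebraMap P' C' (algebraMap A P' a) = algebraMap P' C' (algebraMap A' P' (algebraMap A A' a))
    rw [← IsScalarTower.algebraMap_apply A A' P']
  haveI : IsScalarTower A C C' := IsScalarTower.of_algebraMap_eq fun a => by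
    rw [IsScalarTower.algebraMap_apply A P C, ← IsScalarTower.algebraMap_apply P C C',
      IsScalarTower.algebraMap_apply P P' C', ← IsScalarTower.algebraMap_apply A P P']
    rfl
  haveI : Algebra.IsPushout A A' C C' := by
    haveI : Algebra.IsPushout A P A' P' := Algebra.IsPushout.symm inferInstance
    haveI : Algebra.IsPushout P C P' C' := Algebra.IsPushout.symm inferInstance
    haveI : Algebra.IsPushout A C A' C' := DevExist.isPushout_trans A P C A' P' C'
    exact Algebra.IsPushout.symm inferInstance
  obtain ⟨M, _, _, _, _, l, hl⟩ : ∃ (M : Type u) (_ : AddCommGroup M) (_ : Module C' M) (_ : Module P' M)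
      (_ : IsScalarTower P' C' M) (l : N' →ₗ[P'] M), IsBaseChange C' l :=
    ⟨C' ⊗[P'] N', inferInstance, inferInstance, inferInstance, inferInstance,
      TensorProduct.mk P' C' N' 1, TensorProduct.isBaseChange P' N' C'⟩
  letI : Module A' M := Module.compHom M (algebraMap A' C')
  haveI : IsScalarTower A' C' M := IsScalarTower.of_algebraMap_smul fun _ _ => rfl
  haveI : IsScalarTower A' P' M := IsScalarTower.to₁₂₄ A' P' C' M
  letI : Module C M := Module.compHom M (algebraMap C C')
  haveI : IsScalarTower C C' M := IsScalarTower.of_algebraMap_smul fun _ _ => rfl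
  letI : Module P M := Module.compHom M (algebraMap P C')
  haveI : IsScalarTower P C' M := IsScalarTower.of_algebraMap_smul fun _ _ => rfl
  haveI : IsScalarTower P C M := IsScalarTower.to₁₂₄ P C C' M
  haveI : IsScalarTower P P' M := IsScalarTower.to₁₂₄ P P' C' M
  let a : NC →ₗ[C] M := hg.lift ((l.restrictScalars P).comp f)
  have ha : IsBaseChange C' a := IsBaseChange.of_comp hg (by
    rw [show ((a.restrictScalars P) ∘ₗ g) = (l.restrictScalars P).comp f from
      LinearMap.ext fun n => hg.lift_eq _ n]
    exact hf.comp hl)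
  rw [flatFibre_iff_flat l hl y z hzy]
  exact h A' C' M a ha

set_option maxHeartbeats 1600000 in
/-- A flattening ideal before a flat algebra is a flattening ideal after. -/
theorem Flattens.to_flat {P C : Type u} [CommRing P] [CommRing C] [Algebra A P] [Algebra A C] [Algebra P C]
    [IsScalarTower A P C] [Module.Flat P C] {N NC : Type u} [AddCommGroup N] [Module P N] [AddCommGroup NC]
    [Module C NC] [Module P NC] [IsScalarTower P C NC] (g : N →ₗ[P] NC) (hg : IsBaseChange C g)
    (y : Ideal P) (z : Ideal C) [z.IsPrime] (hzy : z.comap (algebraMap P C) = y) {I : Ideal A}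
    (h : Flattens A y N I) : Flattens A z NC I := by
  intro A' C' M _ _ _ _ _ _ _ _ _ _ _ _ _ _ _ _ _ f hf
  obtain ⟨P', N', _, _, _, _, _, _, _, _, _, _, _, _, l, hp1, hp2, hl⟩ := FlatPure.exists_base_model A A' P N
  haveI := hp1; haveI := hp2
  letI : Algebra P C' := ((algebraMap C C').comp (algebraMap P C)).toAlgebra
  haveI : IsScalarTower P C C' := IsScalarTower.of_algebraMap_eq' rfl
  let gR : P →ₐ[A] C' := (IsScalarTower.toAlgHom A C C').comp (IsScalarTower.toAlgHom A P C)
  let ψ : P' →ₐ[A] C' := Algebra.pushoutDesc P' (IsScalarTower.toAlgHom A A' C') gR fun _ _ => mul_comm _ _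
  letI : Algebra P' C' := ψ.toRingHom.toAlgebra
  haveI : IsScalarTower A' P' C' := IsScalarTower.of_algebraMap_eq fun a =>
    (Algebra.pushoutDesc_left P' (IsScalarTower.toAlgHom A A' C') gR (fun _ _ => mul_comm _ _) a).symm
  haveI : IsScalarTower P P' C' := IsScalarTower.of_algebraMap_eq fun s =>
    (Algebra.pushoutDesc_right P' (IsScalarTower.toAlgHom A A' C') gR (fun _ _ => mul_comm _ _) s).symm
  haveI : Algebra.IsPushout P P' C C' := by
    haveI : Algebra.IsPushout A C A' C' := Algebra.IsPushout.symm inferInstance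
    haveI : Algebra.IsPushout P C P' C' := FlatClosed.isPushout_cancel A P C A' P' C'
    exact Algebra.IsPushout.symm inferInstance
  letI : Module P' M := Module.compHom M (algebraMap P' C')
  haveI : IsScalarTower P' C' M := IsScalarTower.of_algebraMap_smul fun _ _ => rfl
  letI : Module P M := Module.compHom M (algebraMap P C')
  haveI : IsScalarTower P C' M := IsScalarTower.of_algebraMap_smul fun _ _ => rfl
  haveI : IsScalarTower P P' M := IsScalarTower.to₁₂₄ P P' C' M
  haveI : IsScalarTower P C M := IsScalarTower.to₁₂₄ P C C' M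
  haveI : IsScalarTower A' P' M := IsScalarTower.to₁₂₄ A' P' C' M
  let fg : N →ₗ[P] M := (f.restrictScalars P).comp g
  let a : N' →ₗ[P'] M := hl.lift fg
  have ha : IsBaseChange C' a := IsBaseChange.of_comp hl (by
    rw [show ((a.restrictScalars P) ∘ₗ l) = fg from LinearMap.ext fun n => hl.lift_eq _ n]
    exact hg.comp hf)
  rw [← flatFibre_iff_flat a ha y z hzy]
  exact h A' P' N' l hl

set_option maxHeartbeats 1600000 in
/-- A flattening ideal over a finite algebra with a single point. -/
theorem Flattens.to_finite {P C : Type u} [CommRing P] [CommRing C] [Algebra A P] [Algebra A C] [Algebra P C]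
    [IsScalarTower A P C] [Module.Finite P C] {N : Type u} [AddCommGroup N] [Module C N] [Module P N]
    [IsScalarTower P C N] (y : Ideal P) (z : Ideal C) (hzy : z.comap (algebraMap P C) = y)
    (huniq : ∀ (Q : Ideal C) [Q.IsPrime], Q.comap (algebraMap P C) = y → Q = z) {I : Ideal A}
    (h : Flattens A y N I) : Flattens A z N I := by
  intro A' C' M _ _ _ _ _ _ _ _ _ _ _ _ _ _ _ _ _ f hf
  obtain ⟨P', _, _, _, _, _, _, hp⟩ : ∃ (P' : Type u) (_ : CommRing P') (_ : Algebra A' P') (_ : Algebra A P')
      (_ : Algebra P P') (_ : IsScalarTower A A' P') (_ : IsScalarTower A P P'), Algebra.IsPushout A A' P P' := by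
    letI : Algebra P (A' ⊗[A] P) := Algebra.TensorProduct.rightAlgebra
    haveI : IsScalarTower A P (A' ⊗[A] P) := Algebra.TensorProduct.right_isScalarTower
    exact ⟨A' ⊗[A] P, inferInstance, inferInstance, inferInstance, inferInstance, inferInstance, inferInstance,
      TensorProduct.isPushout (R := A) (S := A') (T := P)⟩
  haveI := hp
  haveI : Algebra.IsPushout A P A' P' := Algebra.IsPushout.symm inferInstance
  letI : Algebra P C' := ((algebraMap C C').comp (algebraMap P C)).toAlgebra
  haveI : IsScalarTower P C C' := IsScalarTower.of_algebraMap_eq' rfl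
  let gR : P →ₐ[A] C' := (IsScalarTower.toAlgHom A C C').comp (IsScalarTower.toAlgHom A P C)
  let ψ : P' →ₐ[A] C' := Algebra.pushoutDesc P' (IsScalarTower.toAlgHom A A' C') gR fun _ _ => mul_comm _ _
  letI : Algebra P' C' := ψ.toRingHom.toAlgebra
  haveI : IsScalarTower A' P' C' := IsScalarTower.of_algebraMap_eq fun a =>
    (Algebra.pushoutDesc_left P' (IsScalarTower.toAlgHom A A' C') gR (fun _ _ => mul_comm _ _) a).symm
  haveI : IsScalarTower P P' C' := IsScalarTower.of_algebraMap_eq fun s =>
    (Algebra.pushoutDesc_right P' (IsScalarTower.toAlgHom A A' C') gR (fun _ _ => mul_comm _ _) s).symm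
  haveI : Algebra.IsPushout P P' C C' := by
    haveI : Algebra.IsPushout A C A' C' := Algebra.IsPushout.symm inferInstance
    haveI : Algebra.IsPushout P C P' C' := FlatClosed.isPushout_cancel A P C A' P' C'
    exact Algebra.IsPushout.symm inferInstance
  letI : Module P' M := Module.compHom M (algebraMap P' C')
  haveI : IsScalarTower P' C' M := IsScalarTower.of_algebraMap_smul fun _ _ => rfl
  letI : Module P M := Module.compHom M (algebraMap P C')
  haveI : IsScalarTower P C' M := IsScalarTower.of_algebraMap_smul fun _ _ => rfl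
  haveI : IsScalarTower P P' M := IsScalarTower.to₁₂₄ P P' C' M
  haveI : IsScalarTower P C M := IsScalarTower.to₁₂₄ P C C' M
  haveI : IsScalarTower A' P' M := IsScalarTower.to₁₂₄ A' P' C' M
  have hfP : IsBaseChange P' (f.restrictScalars P) :=
    FlatClosed.isBaseChange_restrict P P' C C' N M f hf
  rw [← flatFibre_iff_finite (P' := P') (C' := C') y z hzy huniq]
  exact h A' P' M (f.restrictScalars P) hfP

end Groth.Agent.FlatHens
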